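import Groth.Agent.Brauer.K444.SplitMain
import Mathlib.FieldTheory.Normal.Closure
import Mathlib.FieldTheory.Perfect
import Mathlib.FieldTheory.IsAlgClosed.AlgebraicClosure
import Mathlib.LinearAlgebra.Matrix.Determinant.Basic

/-!
# Splitting data with root of unity factor sets
-/

set_option autoImplicit false
universe u v w
open scoped TensorProduct MatrixGroups

namespace K444.SplitData

/-- Enlarge a finite extension to a finite Galois one containing given roots. -/
theorem exists_enlarge (K N₁ : Type u) [Field K] [Field N₁] [Algebra K N₁] [FiniteDimensional K N₁] [CharZero K]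
    {ι : Type*} [Finite ι] (a : ι → N₁) (d : ℕ) (hd : 0 < d) :
    ∃ (N : Type u) (_ : Field N) (_ : Algebra K N) (j : N₁ →ₐ[K] N) (μ : ι → N),
      FiniteDimensional K N ∧ IsGalois K N ∧ ∀ i, μ i ^ d = j (a i) := by
  let Ω := AlgebraicClosure N₁
  have : Algebra.IsAlgebraic K Ω := Algebra.IsAlgebraic.trans K N₁ Ω
  have hr : ∀ i, ∃ m : Ω, m ^ d = algebraMap N₁ Ω (a i) := fun i => IsAlgClosed.exists_pow_nat_eq _ hd
  choose m hm using hr
  let F1 : IntermediateField K Ω := (IsScalarTower.toAlgHom K N₁ Ω).fieldRange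
  let F2 : IntermediateField K Ω := IntermediateField.adjoin K (Set.range m)
  have : FiniteDimensional K F2 :=
    IntermediateField.finiteDimensional_adjoin fun x _ => (Algebra.IsAlgebraic.isAlgebraic x).isIntegral
  have : FiniteDimensional K F1 := LinearMap.finiteDimensional_range (IsScalarTower.toAlgHom K N₁ Ω).toLinearMap
  let F3 := F1 ⊔ F2
  have : FiniteDimensional K F3 := inferInstance
  have : IsAlgClosed Ω := inferInstance
  have hno : Normal K Ω := normal_iff.mpr fun x => ⟨(Algebra.IsAlgebraic.isAlgebraic x).isIntegral, IsAlgClosed.splits _⟩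
  let N := IntermediateField.normalClosure K F3 Ω
  have hle : F3 ≤ N := IntermediateField.le_normalClosure F3
  have : Normal K N := inferInstance
  have : FiniteDimensional K N := inferInstance
  have : IsGalois K N := ⟨⟩
  refine ⟨N, inferInstance, inferInstance,
    (IsScalarTower.toAlgHom K N₁ Ω).codRestrict N.toSubalgebra (fun x => hle (le_sup_left (a := F1) (b := F2) ⟨x, rfl⟩)),
    fun i => ⟨m i, hle (le_sup_right (a := F1) (b := F2) (IntermediateField.subset_adjoin K _ ⟨i, rfl⟩))⟩,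
    inferInstance, inferInstance, fun i => Subtype.ext (hm i)⟩

/-- An element killed by `X ^ d - 1` comes from the algebraically closed subfield. -/
theorem exists_of_pow_eq_one {k N : Type*} [Field k] [IsAlgClosed k] [Field N] [Algebra k N] (x : N) (d : ℕ)
    (hd : 0 < d) (hx : x ^ d = 1) : ∃ y : k, algebraMap k N y = x := by
  have hint : IsIntegral k x := ⟨Polynomial.X ^ d - 1, Polynomial.monic_X_pow_sub_C 1 hd.ne', by simp [hx]⟩
  have hdeg := IsAlgClosed.degree_eq_one_of_irreducible k (minpoly.irreducible hint)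
  exact minpoly.mem_range_of_degree_eq_one k x hdeg

theorem exists_data (k K E : Type u) [Field k] [IsAlgClosed k] [CharZero k] [Field K] [Algebra k K]
    [Field E] [Algebra K E] [FiniteDimensional K E] (D : Type u) [Ring D] [Algebra E D] [Algebra.IsCentral E D]
    [IsSimpleRing D] [FiniteDimensional E D] :
    ∃ (N : Type u) (_ : Field N) (_ : Algebra K N) (_ : Algebra E N) (_ : IsScalarTower K E N)
      (_ : FiniteDimensional K N) (_ : IsGalois K N) (d : ℕ) (_ : NeZero d) (f : D →ₐ[E] Matrix (Fin d) (Fin d) N)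
      (C : (N ≃ₐ[E] N) → GL (Fin d) N) (c : (N ≃ₐ[E] N) → (N ≃ₐ[E] N) → k),
      Module.finrank E D = d * d ∧
      (∀ g x, (C g : Matrix (Fin d) (Fin d) N) * (f x).map g = f x * C g) ∧
      ∀ g h, (C g : Matrix (Fin d) (Fin d) N) * (C h : Matrix (Fin d) (Fin d) N).map g =
        algebraMap K N (algebraMap k K (c g h)) • (C (g * h) : Matrix (Fin d) (Fin d) N) := by
  have : CharZero K := charZero_of_injective_algebraMap (algebraMap k K).injective
  obtain ⟨N₁, _, _, hfd, hgal, d, hd, ⟨e⟩⟩ := Groth.Agent.CurvesA.SepSplit.exists_galois_splitting E D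
  have : NeZero d := ⟨hd⟩
  have hdim : Module.finrank E D = d * d := by
    have h1 := e.toLinearEquiv.finrank_eq
    rw [Module.finrank_baseChange] at h1
    rw [h1]
    simp [Module.finrank_matrix]
  let f₁ : D →ₐ[E] Matrix (Fin d) (Fin d) N₁ :=
    (e.toAlgHom.restrictScalars E).comp (Algebra.TensorProduct.includeRight : D →ₐ[E] N₁ ⊗[E] D)
  have hC₁ : ∀ g : N₁ ≃ₐ[E] N₁, ∃ C : GL (Fin d) N₁, ∀ x, (C : Matrix (Fin d) (Fin d) N₁) * (f₁ x).map g = f₁ x * C :=
    fun g => TwCoc.exists_conj f₁ (((g : N₁ →ₐ[E] N₁).mapMatrix).comp f₁)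
  choose C₁ hC₁ using hC₁
  let _ : Algebra K N₁ := ((algebraMap E N₁).comp (algebraMap K E)).toAlgebra
  have : IsScalarTower K E N₁ := IsScalarTower.of_algebraMap_eq fun _ => rfl
  have : FiniteDimensional K N₁ := Module.Finite.trans E N₁
  obtain ⟨N, _, _, j, μ, _, _, hμ⟩ := exists_enlarge K N₁ (fun g : N₁ ≃ₐ[E] N₁ =>
    (C₁ g : Matrix (Fin d) (Fin d) N₁).det) d (Nat.pos_of_ne_zero hd)
  let _ : Algebra E N := ((j : N₁ →+* N).comp (algebraMap E N₁)).toAlgebra
  have : IsScalarTower K E N := IsScalarTower.of_algebraMap_eq fun x => (j.commutes x).symm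
  let jE : N₁ →ₐ[E] N := { (j : N₁ →+* N) with commutes' := fun x => rfl }
  have hμE : ∀ g, μ g ^ d = jE (C₁ g : Matrix (Fin d) (Fin d) N₁).det := hμ
  obtain ⟨r, hr⟩ := SplitCore.exists_restrict (E := E) (N := N₁) (M := E) (M' := N) jE
  have hμ0 : ∀ g, μ g ≠ 0 := fun g h0 => by
    have h1 := hμE g
    rw [h0, zero_pow hd] at h1
    have h2 : (C₁ g : Matrix (Fin d) (Fin d) N₁).det = 0 := (jE : N₁ →+* N).injective (by rw [map_zero]; exact h1.symm)
    exact ((Matrix.isUnit_iff_isUnit_det _).mp (C₁ g).isUnit).ne_zero h2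
  let jM : Matrix (Fin d) (Fin d) N₁ →ₐ[E] Matrix (Fin d) (Fin d) N := jE.mapMatrix
  have hjM : ∀ (g : N ≃ₐ[E] N) (X : Matrix (Fin d) (Fin d) N₁), (jM X).map g = jM (X.map (r g)) := by
    intro g X
    ext a b
    exact (hr g _).symm
  have hu : ∀ g, IsUnit ((μ g)⁻¹ • jM (C₁ g : Matrix (Fin d) (Fin d) N₁)) := fun g => by
    refine IsUnit.of_mul_eq_one (μ g • jM (((C₁ g)⁻¹ : GL (Fin d) N₁) : Matrix (Fin d) (Fin d) N₁)) ?_
    rw [Matrix.smul_mul, Matrix.mul_smul, smul_smul, inv_mul_cancel₀ (hμ0 g), one_smul, ← map_mul, Units.mul_inv,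
      map_one]
  let C : (N ≃ₐ[E] N) → GL (Fin d) N := fun g => (hu (r g)).unit
  have hC : ∀ g, (C g : Matrix (Fin d) (Fin d) N) = (μ (r g))⁻¹ • jM (C₁ (r g) : Matrix (Fin d) (Fin d) N₁) :=
    fun g => rfl
  have hdet : ∀ g, (C g : Matrix (Fin d) (Fin d) N).det = 1 := fun g => by
    rw [hC, Matrix.det_smul, Fintype.card_fin]
    have h1 : (jM (C₁ (r g) : Matrix (Fin d) (Fin d) N₁)).det = jE (C₁ (r g) : Matrix (Fin d) (Fin d) N₁).det :=
      (AlgHom.map_det jE _).symm
    rw [h1, ← hμE, ← mul_pow, inv_mul_cancel₀ (hμ0 _), one_pow]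
  have h1 : ∀ (g : N ≃ₐ[E] N) (x : D), (C g : Matrix (Fin d) (Fin d) N) * (jM (f₁ x)).map g = jM (f₁ x) * C g := by
    intro g x
    rw [hC, hjM, Matrix.smul_mul, ← map_mul, hC₁, Matrix.mul_smul, map_mul]
  have h2 : ∀ g h : N ≃ₐ[E] N, ∃ c : k, (C g : Matrix (Fin d) (Fin d) N) * (C h : Matrix (Fin d) (Fin d) N).map g =
        algebraMap K N (algebraMap k K c) • (C (g * h) : Matrix (Fin d) (Fin d) N) := by
    intro g h
    have hgh : ∀ X : Matrix (Fin d) (Fin d) N, X.map (g * h) = (X.map h).map g := fun X => by ext a b; rfl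
    have h3 : ∀ x, (C g : Matrix (Fin d) (Fin d) N) * (C h : Matrix (Fin d) (Fin d) N).map g *
        (jM (f₁ x)).map (g * h) = jM (f₁ x) * ((C g : Matrix (Fin d) (Fin d) N) * (C h : Matrix (Fin d) (Fin d) N).map g) := by
      intro x
      rw [hgh, mul_assoc, ← TwCoc.map_mul', h1, TwCoc.map_mul', ← mul_assoc, h1, mul_assoc]
    have h4 : ∀ x, (jM (f₁ x)).map (g * h) * ((C (g * h))⁻¹ : GL (Fin d) N) =
        ((C (g * h))⁻¹ : GL (Fin d) N) * jM (f₁ x) := by
      intro x
      have h5 := congrArg (fun Z : Matrix (Fin d) (Fin d) N => (((C (g * h))⁻¹ : GL (Fin d) N) :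
        Matrix (Fin d) (Fin d) N) * Z * (((C (g * h))⁻¹ : GL (Fin d) N) : Matrix (Fin d) (Fin d) N)) (h1 (g * h) x)
      simp only [← mul_assoc] at h5
      rw [Units.inv_mul, one_mul, mul_assoc _ ((C (g * h)) : Matrix (Fin d) (Fin d) N), Units.mul_inv, mul_one] at h5
      exact h5
    obtain ⟨c, hc⟩ := TwCoc.exists_scalar (jM.comp f₁) (by rw [hdim, Fintype.card_fin])
      ((C g : Matrix (Fin d) (Fin d) N) * (C h : Matrix (Fin d) (Fin d) N).map g * ((C (g * h))⁻¹ : GL (Fin d) N))
      (fun x => by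
        change _ * jM (f₁ x) = jM (f₁ x) * _
        rw [mul_assoc _ _ (jM (f₁ x)), ← h4, ← mul_assoc, h3, mul_assoc])
    have h6 : (C g : Matrix (Fin d) (Fin d) N) * (C h : Matrix (Fin d) (Fin d) N).map g =
        c • (C (g * h) : Matrix (Fin d) (Fin d) N) := by
      have h7 := congrArg (fun Z : Matrix (Fin d) (Fin d) N => Z * (C (g * h) : Matrix (Fin d) (Fin d) N)) hc
      simp only [Matrix.smul_mul, one_mul] at h7
      rw [mul_assoc _ _ (C (g * h) : Matrix (Fin d) (Fin d) N), Units.inv_mul, mul_one] at h7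
      exact h7
    have h8 : c ^ d = 1 := by
      have h9 := congrArg Matrix.det h6
      have h10 : ((C h : Matrix (Fin d) (Fin d) N).map g).det = g (C h : Matrix (Fin d) (Fin d) N).det :=
        (AlgEquiv.map_det g _).symm
      rw [Matrix.det_mul, Matrix.det_smul, hdet, hdet, h10, hdet, map_one, Fintype.card_fin, mul_one, mul_one] at h9
      exact h9.symm
    let _ : Algebra k N := ((algebraMap K N).comp (algebraMap k K)).toAlgebra
    obtain ⟨y, hy⟩ := exists_of_pow_eq_one (k := k) c d (Nat.pos_of_ne_zero hd) h8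
    refine ⟨y, ?_⟩
    have : algebraMap K N (algebraMap k K y) = c := hy
    rw [this, h6]
  choose c hc using h2
  exact ⟨N, inferInstance, inferInstance, inferInstance, inferInstance, inferInstance, inferInstance, d, inferInstance,
    jM.comp f₁, C, c, hdim, h1, hc⟩

end K444.SplitData
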