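import Groth.Agent.Brauer.K444.Extract
import Groth.Agent.Brauer.K444.SplitData
import Groth.Agent.S18860
import Groth.Agent.CurvesA.BrauerTrdeg
import Groth.Agent.PrincBund.K826.Descend
import Mathlib.RingTheory.Etale.Field
import Mathlib.RingTheory.RingHom.Etale
import Mathlib.AlgebraicGeometry.Morphisms.Finite

/-!
# Compressing Galois torsors to trdeg one kills Brauer classes
-/

set_option autoImplicit false
universe u

open CategoryTheory CategoryTheory.Limits MonoidalCategory CartesianMonoidalCategory MonObj GrpObj AlgebraicGeometry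
open Groth.Agent.Books.BorelOrb K554.Fpqc K554.BcPt
open scoped TensorProduct

namespace K444.H13

theorem surjective_SpecMap (K N : Type u) [Field K] [Field N] [Algebra K N] :
    Surjective (Spec.map (CommRingCat.ofHom (algebraMap K N))) :=
  ⟨fun _ => ⟨(⟨⊥, Ideal.isPrime_bot⟩ : PrimeSpectrum N), Subsingleton.elim (α := PrimeSpectrum K) _ _⟩⟩

theorem etale_SpecMap (K N : Type u) [Field K] [Field N] [Algebra K N] [FiniteDimensional K N]
    [Algebra.IsSeparable K N] : Etale (Spec.map (CommRingCat.ofHom (algebraMap K N))) := by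
  rw [HasRingHomProperty.Spec_iff (P := @Etale)]
  change (algebraMap K N).Etale
  rw [RingHom.etale_algebraMap]
  have : Algebra.FormallyEtale K N := Algebra.FormallyEtale.of_isSeparable K N
  have : Algebra.FinitePresentation K N := Algebra.FinitePresentation.of_finiteType.1 inferInstance
  exact { }

theorem isFinite_GR (k Γ : Type u) [CommRing k] [Group Γ] [Fintype Γ] [DecidableEq Γ] :
    IsFinite (ConstAct.GR k Γ).hom := by
  change IsFinite (Spec.map (CommRingCat.ofHom (algebraMap k (ConstGrp.F k Γ))))
  rw [IsFinite.SpecMap_iff]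
  exact RingHom.finite_algebraMap.mpr inferInstance

section

variable (k K N : Type u) [Field k] [Field K] [Field N] [Algebra k K] [Algebra K N] [Algebra k N]
  [IsScalarTower k K N] (Γ : Type u) [Group Γ] [Fintype Γ] [DecidableEq Γ] [MulSemiringAction Γ N]
  [SMulCommClass Γ k N] [SMulCommClass Γ K N] {J : Type*} [Fintype J] (Xd Yd : J → N)
  (hXY : ∀ g : Γ, ∑ i, Xd i * g • Yd i = if g = 1 then 1 else 0)
  (htr : ∀ b : N, ∃ t : K, algebraMap K N t = ∑ g : Γ, g • b) [FiniteDimensional K N] [Algebra.IsSeparable K N]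

/-- The torsor of a Galois extension. -/
noncomputable def tors :
    NonAbH1.TorsorSch (Red.bc (Spec.map (CommRingCat.ofHom (algebraMap k K))) (ConstAct.GR k Γ))
      Scheme.etalePrecoverage where
  X := Over.mk (GalTors.piN k K N)
  act := GalTors.act k K N Γ
  isTorsor := ⟨GalTors.isPseudoTorsorSch_act k K N Γ Xd Yd hXY htr, by
    refine ⟨Presieve.singleton (GalTors.piN k K N), ?_, ?_⟩
    · rw [Scheme.etalePrecoverage, Scheme.singleton_mem_precoverage_iff]
      exact ⟨(surjective_SpecMap K N).surj, etale_SpecMap K N⟩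
    · rintro _ _ ⟨⟩
      exact ⟨𝟙 _, Category.id_comp _⟩⟩

end

/-- For a central simple algebra over a finite extension `E` of `K` there is a torsor under a finite (constant) group,
such that the algebra is split by every extension of `E` over which the torsor is compressed to transcendence degree
at most one. -/
theorem exists_torsor (k K : Type u) [Field k] [IsAlgClosed k] [CharZero k] [Field K] [Algebra k K]
    (E : Type u) [Field E] [Algebra K E] [FiniteDimensional K E]
    (D : Type u) [DivisionRing D] [Algebra E D] [Algebra.IsCentral E D] [FiniteDimensional E D] :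
    ∃ (S : Over (Spec (CommRingCat.of k))) (_ : GrpObj S) (_ : IsFinite S.hom)
      (β : NonAbH1.TorsorSch (Red.bc (Spec.map (CommRingCat.ofHom (algebraMap k K))) S) Scheme.etalePrecoverage),
      ∀ (L : Type u) [Field L] [Algebra K L] (L₀ : Type u) [Field L₀] [Algebra k L₀] [Algebra L₀ L]
          (hc : Spec.map (CommRingCat.ofHom (algebraMap L₀ L)) ≫ Spec.map (CommRingCat.ofHom (algebraMap k L₀)) = Spec.map (CommRingCat.ofHom (algebraMap K L)) ≫ Spec.map (CommRingCat.ofHom (algebraMap k K)))
          (c₀ : NonAbH1.TorsorSch (Red.bc (Spec.map (CommRingCat.ofHom (algebraMap k L₀))) S) Scheme.etalePrecoverage),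
          Algebra.trdeg k L₀ ≤ 1 →
          Nonempty (NonAbH1.EquivIso
            ((c₀.act.bc (Spec.map (CommRingCat.ofHom (algebraMap L₀ L)))).restrict
              (ActBC.bcCompIso (Spec.map (CommRingCat.ofHom (algebraMap L₀ L))) (Spec.map (CommRingCat.ofHom (algebraMap k L₀))) S hc).inv)
            ((β.act.bc (Spec.map (CommRingCat.ofHom (algebraMap K L)))).restrict
              (ActBC.bcCompIso (Spec.map (CommRingCat.ofHom (algebraMap K L))) (Spec.map (CommRingCat.ofHom (algebraMap k K))) S rfl).inv)) →
      ∀ (M : Type u) [Field M] [Algebra K M] [Algebra E M] [Algebra L M] [IsScalarTower K E M]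
        [IsScalarTower K L M],
        ∃ n : ℕ, Nonempty ((M ⊗[E] D) ≃ₐ[M] Matrix (Fin n) (Fin n) M) := by
  classical
  obtain ⟨N, _, _, _, _, _, _, d, _, f, C, c, hd, hC1, hC2⟩ := SplitData.exists_data k K E D
  let _ : Algebra k N := ((algebraMap K N).comp (algebraMap k K)).toAlgebra
  have : IsScalarTower k K N := IsScalarTower.of_algebraMap_eq fun _ => rfl
  let Γ := N ≃ₐ[K] N
  have : SMulCommClass Γ k N := ⟨fun g r x => by
    rw [Algebra.smul_def, Algebra.smul_def, IsScalarTower.algebraMap_apply k K N]
    change g (algebraMap K N _ * x) = algebraMap K N _ * g x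
    rw [map_mul, AlgEquiv.commutes]⟩
  obtain ⟨n, Xd, Yd, hXY⟩ := K447.Descent.exists_dual K N
  have hXY' : ∀ g : Γ, ∑ i, Xd i * g • Yd i = if g = 1 then 1 else 0 := fun g => by
    rw [← hXY g]; rfl
  have htr : ∀ b : N, ∃ t : K, algebraMap K N t = ∑ g : Γ, g • b := fun b =>
    ⟨Algebra.trace K N b, trace_eq_sum_automorphisms b⟩
  refine ⟨ConstAct.GR k Γ, inferInstance, isFinite_GR k Γ, tors k K N Γ Xd Yd hXY' htr, ?_⟩
  intro L _ _ L₀ _ _ _ hc c₀ htd ⟨e⟩ M _ _ _ _ _ _
  have : FiniteDimensional E N := Module.Finite.of_restrictScalars_finite K E N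
  have : IsGalois E N := IsGalois.tower_top_of_isGalois K E N
  obtain ⟨M', _, _, _, _, j, _, _, hgen⟩ := Compos.exists_compositum E N M
  -- the tower of fields
  let _ : Algebra L M' := ((algebraMap M M').comp (algebraMap L M)).toAlgebra
  have : IsScalarTower L M M' := IsScalarTower.of_algebraMap_eq fun _ => rfl
  let _ : Algebra L₀ M := ((algebraMap L M).comp (algebraMap L₀ L)).toAlgebra
  have : IsScalarTower L₀ L M := IsScalarTower.of_algebraMap_eq fun _ => rfl
  let _ : Algebra L₀ M' := ((algebraMap M M').comp (algebraMap L₀ M)).toAlgebra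
  have : IsScalarTower L₀ M M' := IsScalarTower.of_algebraMap_eq fun _ => rfl
  have : IsScalarTower L₀ L M' := IsScalarTower.of_algebraMap_eq fun _ => rfl
  let _ : Algebra k E := ((algebraMap K E).comp (algebraMap k K)).toAlgebra
  have : IsScalarTower k K E := IsScalarTower.of_algebraMap_eq fun _ => rfl
  have : IsScalarTower k E N := IsScalarTower.of_algebraMap_eq fun x => by
    rw [IsScalarTower.algebraMap_apply k K N, IsScalarTower.algebraMap_apply k K E,
      ← IsScalarTower.algebraMap_apply K E N]
  let _ : Algebra k M := ((algebraMap E M).comp (algebraMap k E)).toAlgebra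
  have : IsScalarTower k E M := IsScalarTower.of_algebraMap_eq fun _ => rfl
  have hcr : ∀ x : k, algebraMap L₀ L (algebraMap k L₀ x) = algebraMap K L (algebraMap k K x) := by
    intro x
    rw [← Spec.map_comp, ← Spec.map_comp] at hc
    exact congrArg (fun z => z.hom x) (Spec.map_injective hc)
  have : IsScalarTower k L₀ M := IsScalarTower.of_algebraMap_eq fun x => by
    rw [IsScalarTower.algebraMap_apply L₀ L M, hcr, ← IsScalarTower.algebraMap_apply K L M,
      IsScalarTower.algebraMap_apply k E M, IsScalarTower.algebraMap_apply k K E,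
      ← IsScalarTower.algebraMap_apply K E M]
  -- the finite scheme over `L₀`
  have hfin : IsFinite c₀.X.hom := by
    have h1 := Groth.Agent.S18860.result c₀.act
      ⟨c₀.isTorsor.1, by
        obtain ⟨R, hR, h⟩ := c₀.isTorsor.2
        exact ⟨R, K826.Descend.etale_le_fpqc _ hR, h⟩⟩
    refine h1.2.2.1 ?_
    have := isFinite_GR k Γ
    exact inferInstanceAs (IsFinite (pullback.snd (ConstAct.GR k Γ).hom _))
  have hj : ∀ x : K, (j : N →+* M') (algebraMap K N x) = algebraMap L M' (algebraMap K L x) := by
    intro x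
    rw [IsScalarTower.algebraMap_apply L M M', ← IsScalarTower.algebraMap_apply K L M,
      IsScalarTower.algebraMap_apply K E M, ← IsScalarTower.algebraMap_apply E M M',
      IsScalarTower.algebraMap_apply K E N]
    exact j.commutes _
  obtain ⟨T, hT1, hT2, hT3⟩ := Extract.exists_set hc c₀.act e (j : N →+* M') hj
  obtain ⟨r, hr⟩ := SplitCore.exists_restrict (M := M) j
  have hgL : ∀ (g : M' ≃ₐ[M] M') (l : L), g (algebraMap L M' l) = algebraMap L M' l := by
    intro g l
    rw [IsScalarTower.algebraMap_apply L M M', AlgEquiv.commutes]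
  have hsp := SplitMain.splits (M := M) (M' := M') (L₀ := L₀) hd f C hC1 c (fun g h => hC2 g h) j T hT1
    (fun g t ht => hT2 ((g : M' →ₐ[M] M') : M' →+* M') ((r g).restrictScalars K) (hgL g)
      (fun x => (hr g x).symm) t ht)
    (fun g hg => hgen g fun x => hT3 ((g : M' →ₐ[M] M') : M' →+* M') (hgL g) hg x)
    (fun F _ _ _ D _ _ _ _ => Groth.Agent.CurvesA.BrauerTrdeg.brauer_trivial_of_trdeg_le_one k L₀ htd F D)
  obtain ⟨n, _, hn⟩ := hsp
  exact ⟨n, hn⟩

end K444.H13
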