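import Mathlib.Algebra.Azumaya.Basic
import Mathlib.RingTheory.Nakayama
import Mathlib.RingTheory.TensorProduct.Finite
import Mathlib.LinearAlgebra.Dual.Lemmas
import Mathlib.Algebra.Module.Projective
import Mathlib.LinearAlgebra.TensorProduct.Opposite

/-!
# Azumaya algebras through sandwich data
An `R`-algebra `A` is Azumaya iff it is faithful and has a finite dual basis `(x i, f i)` such that each
`a ↦ f i a • 1` is of the form `a ↦ ∑ l, c l * a * d l`.
-/

set_option autoImplicit false
universe u v w
open scoped TensorProduct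
open MulOpposite

namespace K444.AzData

section basic

variable {R : Type u} [CommRing R] {A : Type v} [Ring A] [Algebra R A]

theorem mem_range_mulLeftRight_iff (g : Module.End R A) :
    (∃ t, AlgHom.mulLeftRight R A t = g) ↔
      ∃ (n : ℕ) (c d : Fin n → A), ∀ a, ∑ l, c l * a * d l = g a := by
  constructor
  · rintro ⟨t, rfl⟩
    induction t using TensorProduct.induction_on with
    | zero => exact ⟨0, fun _ => 0, fun _ => 0, by simp⟩
    | tmul x y => exact ⟨1, fun _ => x, fun _ => y.unop, by simp⟩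
    | add x y hx hy =>
      obtain ⟨n, c, d, h⟩ := hx
      obtain ⟨n', c', d', h'⟩ := hy
      refine ⟨n + n', Fin.append c c', Fin.append d d', fun a => ?_⟩
      rw [Fin.sum_univ_add, map_add, LinearMap.add_apply, ← h, ← h']
      simp
  · rintro ⟨n, c, d, h⟩
    refine ⟨∑ l, c l ⊗ₜ op (d l), ?_⟩
    ext a
    rw [map_sum, LinearMap.sum_apply, ← h]
    simp

/-- From a family indexed by any fintype. -/
theorem mem_range_of_fintype {κ : Type*} [Fintype κ] (g : Module.End R A) (c d : κ → A)
    (h : ∀ a, ∑ l, c l * a * d l = g a) : ∃ t, AlgHom.mulLeftRight R A t = g := by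
  refine ⟨∑ l, c l ⊗ₜ op (d l), ?_⟩
  ext a
  rw [map_sum, LinearMap.sum_apply, ← h]
  simp

theorem psi_eq (a b : A) (T : A ⊗[R] Aᵐᵒᵖ) :
    (LinearMap.mul' R A) (TensorProduct.map (AlgHom.mulLeftRight R A (a ⊗ₜ op b))
      (opLinearEquiv R (M := A)).symm.toLinearMap T) = a * AlgHom.mulLeftRight R A T b := by
  induction T using TensorProduct.induction_on with
  | zero => simp
  | tmul x y => simp [mul_assoc]
  | add x y hx hy => rw [map_add, map_add, map_add, LinearMap.add_apply, mul_add, hx, hy]

variable (R A) in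
/-- Sandwich data. -/
def Has : Prop :=
  ∃ (n : ℕ) (x : Fin n → A) (f : Fin n → A →ₗ[R] R), (∀ a, ∑ i, f i a • x i = a) ∧
    ∀ i, ∃ (m : ℕ) (c d : Fin m → A), ∀ a, ∑ l, c l * a * d l = algebraMap R A (f i a)

theorem Has.of_fintype {ι : Type*} [Fintype ι] (x : ι → A) (f : ι → A →ₗ[R] R)
    (hx : ∀ a, ∑ i, f i a • x i = a)
    (ht : ∀ i, ∃ (κ : Type) (_ : Fintype κ) (c d : κ → A),
      ∀ a, ∑ l, c l * a * d l = algebraMap R A (f i a)) : Has R A := by
  classical
  let e := (Fintype.equivFin ι)
  refine ⟨Fintype.card ι, fun i => x (e.symm i), fun i => f (e.symm i), fun a => ?_, fun i => ?_⟩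
  · rw [Equiv.sum_comp e.symm (fun i => f i a • x i)]
    exact hx a
  · obtain ⟨κ, _, c, d, h⟩ := ht (e.symm i)
    let e' := (Fintype.equivFin κ)
    refine ⟨Fintype.card κ, fun i => c (e'.symm i), fun i => d (e'.symm i), fun a => ?_⟩
    rw [Equiv.sum_comp e'.symm (fun l => c l * a * d l)]
    exact h a

/-- The criterion. -/
theorem isAzumaya_of_has [FaithfulSMul R A] (h : Has R A) : IsAzumaya R A := by
  classical
  obtain ⟨n, x, f, hx, ht⟩ := h
  have ht' : ∀ i, ∃ t, AlgHom.mulLeftRight R A t = (Algebra.linearMap R A) ∘ₗ (f i) := by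
    intro i
    obtain ⟨m, c, d, h⟩ := ht i
    exact mem_range_of_fintype _ c d h
  choose T hT using ht'
  have hfin : Module.Finite R A := by
    refine ⟨⟨Finset.univ.image x, ?_⟩⟩
    rw [eq_top_iff]
    intro a _
    rw [← hx a]
    exact Submodule.sum_mem _ (fun i _ => Submodule.smul_mem _ _ (Submodule.subset_span (by simp)))
  have hproj : Module.Projective R A := by
    have h1 : (Fintype.linearCombination R x) ∘ₗ (LinearMap.pi f) = LinearMap.id := by
      ext a
      simp [Fintype.linearCombination_apply, hx]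
    exact Module.Projective.of_split _ _ h1
  refine { bij := ⟨?_, ?_⟩ }
  · -- injectivity
    have key : ∀ t : A ⊗[R] Aᵐᵒᵖ, t = ∑ i, ((LinearMap.mul' R A)
        (TensorProduct.map (AlgHom.mulLeftRight R A t)
          (opLinearEquiv R (M := A)).symm.toLinearMap (T i))) ⊗ₜ[R] op (x i) := by
      intro t
      induction t using TensorProduct.induction_on with
      | zero => simp [TensorProduct.map_zero_left]
      | tmul a b =>
        induction b using MulOpposite.rec' with
        | _ b =>
        simp only [psi_eq, hT, LinearMap.comp_apply, Algebra.linearMap_apply]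
        conv_lhs => rw [← hx b]
        rw [Finset.op_sum, TensorProduct.tmul_sum]
        refine Finset.sum_congr rfl (fun i _ => ?_)
        rw [op_smul, TensorProduct.tmul_smul, ← Algebra.commutes, ← Algebra.smul_def,
          TensorProduct.smul_tmul']
      | add s t hs ht =>
        conv_lhs => rw [hs, ht]
        rw [← Finset.sum_add_distrib]
        refine Finset.sum_congr rfl (fun i _ => ?_)
        rw [← TensorProduct.add_tmul, map_add, TensorProduct.map_add_left, LinearMap.add_apply,
          map_add]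
    intro s t hst
    rw [key s, key t, hst]
  · intro g
    refine ⟨∑ i, (g (x i) ⊗ₜ op (1 : A)) * T i, ?_⟩
    ext a
    rw [map_sum, LinearMap.sum_apply]
    conv_rhs => rw [← hx a, map_sum]
    refine Finset.sum_congr rfl (fun i _ => ?_)
    rw [map_mul, hT, map_smul]
    simp [Algebra.smul_def, Algebra.commutes]

theorem has_of_isAzumaya [IsAzumaya R A] : Has R A := by
  obtain ⟨n, g, hg⟩ := Module.Finite.exists_fin' R A
  obtain ⟨h, hh⟩ := Module.projective_lifting_property g LinearMap.id hg
  refine ⟨n, fun i => g (Pi.single i 1), fun i => LinearMap.proj i ∘ₗ h, fun a => ?_, fun i => ?_⟩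
  · have h1 := LinearMap.congr_fun hh a
    simp only [LinearMap.comp_apply, LinearMap.id_apply] at h1
    conv_rhs => rw [← h1]
    simp only [LinearMap.comp_apply, LinearMap.proj_apply]
    simp_rw [← map_smul]
    rw [← map_sum]
    congr 1
    ext j
    simp [Finset.sum_apply, Pi.single_apply]
  · obtain ⟨t, ht⟩ := IsAzumaya.bij (R := R) (A := A).2 ((Algebra.linearMap R A) ∘ₗ
      (LinearMap.proj i ∘ₗ h))
    obtain ⟨m, c, d, hcd⟩ := (mem_range_mulLeftRight_iff _).1 ⟨t, ht⟩
    exact ⟨m, c, d, fun a => by rw [hcd]; rfl⟩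

end basic

section trace

variable {R : Type u} [CommRing R] {P : Type v} [AddCommGroup P] [Module R P]

/-- A finite projective module has a dual basis. -/
theorem exists_dualBasis [Module.Finite R P] [Module.Projective R P] :
    ∃ (n : ℕ) (x : Fin n → P) (f : Fin n → P →ₗ[R] R), ∀ a, ∑ i, f i a • x i = a := by
  obtain ⟨n, g, hg⟩ := Module.Finite.exists_fin' R P
  obtain ⟨h, hh⟩ := Module.projective_lifting_property g LinearMap.id hg
  refine ⟨n, fun i => g (Pi.single i 1), fun i => LinearMap.proj i ∘ₗ h, fun a => ?_⟩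
  have h1 := LinearMap.congr_fun hh a
  simp only [LinearMap.comp_apply, LinearMap.id_apply] at h1
  conv_rhs => rw [← h1]
  simp only [LinearMap.comp_apply, LinearMap.proj_apply]
  simp_rw [← map_smul]
  rw [← map_sum]
  congr 1
  ext j
  simp [Finset.sum_apply, Pi.single_apply]

/-- The trace ideal of a faithful finite projective module is the unit ideal. -/
theorem exists_trace_one [Module.Finite R P] [Module.Projective R P] [FaithfulSMul R P] :
    ∃ (n : ℕ) (y : Fin n → P) (g : Fin n → P →ₗ[R] R), ∑ i, g i (y i) = 1 := by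
  obtain ⟨n, x, f, hx⟩ := exists_dualBasis (R := R) (P := P)
  let I : Ideal R := Ideal.span (Set.range fun p : (P →ₗ[R] R) × P => p.1 p.2)
  have hle : (⊤ : Submodule R P) ≤ I • ⊤ := by
    intro a _
    rw [← hx a]
    exact Submodule.sum_mem _ (fun i _ => Submodule.smul_mem_smul
      (Ideal.subset_span ⟨(f i, a), rfl⟩) trivial)
  obtain ⟨r, hr, hr0⟩ := Submodule.exists_sub_one_mem_and_smul_eq_zero_of_fg_of_le_smul I ⊤
    Module.Finite.fg_top hle
  have hr1 : r = 0 := by
    apply FaithfulSMul.eq_of_smul_eq_smul (α := P)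
    intro p
    rw [hr0 p trivial, zero_smul]
  have h1 : (1 : R) ∈ I := by
    rw [hr1, zero_sub] at hr
    simpa using I.neg_mem hr
  obtain ⟨c, hc⟩ := (Finsupp.mem_ideal_span_range_iff_exists_finsupp).1 h1
  classical
  let s := c.support
  let e := s.equivFin
  refine ⟨s.card, fun i => (e.symm i).1.2, fun i => c (e.symm i).1 • (e.symm i).1.1, ?_⟩
  have h2 : ∑ i : Fin s.card, (c (e.symm i).1 • (e.symm i).1.1) (e.symm i).1.2 =
      ∑ j : s, c j.1 * j.1.1 j.1.2 := by
    rw [← Equiv.sum_comp e.symm]
    rfl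
  rw [h2, ← hc, Finset.sum_coe_sort s (fun j => c j * j.1 j.2)]
  rfl

theorem exists_linear_one {A : Type v} [Ring A] [Algebra R A] [Module.Finite R A]
    [Module.Projective R A] [FaithfulSMul R A] : ∃ f : A →ₗ[R] R, f 1 = 1 := by
  obtain ⟨n, y, g, h⟩ := exists_trace_one (R := R) (P := A)
  refine ⟨∑ i, g i ∘ₗ LinearMap.mulLeft R (y i), ?_⟩
  simpa [LinearMap.sum_apply] using h

theorem faithful_of_trace {P : Type v} [AddCommGroup P] [Module R P] {n : ℕ} (y : Fin n → P)
    (g : Fin n → P →ₗ[R] R) (h : ∑ i, g i (y i) = 1) : FaithfulSMul R P := by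
  refine ⟨fun {r s} hrs => ?_⟩
  have h1 : ∀ t : R, t = ∑ i, g i (t • y i) := by
    intro t
    simp_rw [map_smul]
    rw [← Finset.smul_sum, h]
    simp
  rw [h1 r, h1 s]
  simp_rw [hrs]

theorem faithful_of_linear_one {A : Type v} [Ring A] [Algebra R A] (f : A →ₗ[R] R)
    (h : f 1 = 1) : FaithfulSMul R A := by
  refine ⟨fun {r s} hrs => ?_⟩
  have h1 : ∀ t : R, t = f (t • (1 : A)) := by
    intro t
    rw [map_smul, h]; simp
  rw [h1 r, h1 s, hrs 1]

end trace

end K444.AzData
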