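import Groth.Agent.Brauer.K444.AzData
import Mathlib.RingTheory.TensorProduct.Maps
import Mathlib.LinearAlgebra.TensorProduct.Tower
import Mathlib.RingTheory.TensorProduct.IsBaseChangeHom

/-!
# Base change, tensor products, endomorphism algebras of Azumaya algebras
-/

set_option autoImplicit false
universe u v w
open scoped TensorProduct
open MulOpposite

namespace K444.AzOps

open K444.AzData

section basechange

variable {R : Type u} [CommRing R] (S : Type v) [CommRing S] [Algebra R S]
  {A : Type w} [Ring A] [Algebra R A]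

theorem has_baseChange (h : Has R A) : Has S (S ⊗[R] A) := by
  obtain ⟨n, x, f, hx, ht⟩ := h
  refine ⟨n, fun i => 1 ⊗ₜ x i, fun i => (Algebra.TensorProduct.rid R S S).toLinearMap ∘ₗ
    (f i).baseChange S, fun a => ?_, fun i => ?_⟩
  · induction a using TensorProduct.induction_on with
    | zero => simp
    | tmul s a =>
      conv_rhs => rw [← hx a, TensorProduct.tmul_sum]
      refine Finset.sum_congr rfl (fun i _ => ?_)
      simp [TensorProduct.smul_tmul']
    | add a b ha hb =>
      conv_rhs => rw [← ha, ← hb]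
      simp only [map_add, add_smul, Finset.sum_add_distrib]
  · obtain ⟨m, c, d, h⟩ := ht i
    refine ⟨m, fun l => 1 ⊗ₜ c l, fun l => 1 ⊗ₜ d l, fun a => ?_⟩
    induction a using TensorProduct.induction_on with
    | zero => simp
    | tmul s a =>
      simp only [Algebra.TensorProduct.tmul_mul_tmul, one_mul, mul_one]
      rw [← TensorProduct.tmul_sum, h, Algebra.algebraMap_eq_smul_one (f i a),
        ← TensorProduct.smul_tmul]
      simp [Algebra.TensorProduct.algebraMap_apply]
    | add a b ha hb =>
      simp only [mul_add, add_mul, Finset.sum_add_distrib, map_add, ha, hb]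

theorem isAzumaya_baseChange [IsAzumaya R A] : IsAzumaya S (S ⊗[R] A) := by
  obtain ⟨f, hf⟩ := exists_linear_one (R := R) (A := A)
  have : FaithfulSMul S (S ⊗[R] A) := by
    refine faithful_of_linear_one ((Algebra.TensorProduct.rid R S S).toLinearMap ∘ₗ
      f.baseChange S) ?_
    simp [Algebra.TensorProduct.one_def, hf]
  exact isAzumaya_of_has (has_baseChange S has_of_isAzumaya)

end basechange

section tensor

variable {R : Type u} [CommRing R] {A : Type v} [Ring A] [Algebra R A]
  {B : Type w} [Ring B] [Algebra R B]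

theorem has_tensor (hA : Has R A) (hB : Has R B) : Has R (A ⊗[R] B) := by
  obtain ⟨n, x, f, hx, ht⟩ := hA
  obtain ⟨m, y, g, hy, hs⟩ := hB
  refine Has.of_fintype (ι := Fin n × Fin m) (fun p => x p.1 ⊗ₜ y p.2)
    (fun p => (TensorProduct.lid R R).toLinearMap ∘ₗ TensorProduct.map (f p.1) (g p.2))
    (fun a => ?_) (fun p => ?_)
  · induction a using TensorProduct.induction_on with
    | zero => simp
    | tmul a b =>
      conv_rhs => rw [← hx a, ← hy b, TensorProduct.sum_tmul]
      rw [Fintype.sum_prod_type]
      refine Finset.sum_congr rfl (fun i _ => ?_)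
      rw [TensorProduct.tmul_sum]
      refine Finset.sum_congr rfl (fun j _ => ?_)
      rw [TensorProduct.smul_tmul_smul]
      simp
    | add a b ha hb =>
      conv_rhs => rw [← ha, ← hb]
      simp only [map_add, add_smul, Finset.sum_add_distrib]
  · obtain ⟨k, c, d, h⟩ := ht p.1
    obtain ⟨k', c', d', h'⟩ := hs p.2
    refine ⟨Fin k × Fin k', inferInstance, fun l => c l.1 ⊗ₜ c' l.2, fun l => d l.1 ⊗ₜ d' l.2,
      fun a => ?_⟩
    induction a using TensorProduct.induction_on with
    | zero => simp
    | tmul a b =>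
      simp only [Algebra.TensorProduct.tmul_mul_tmul]
      rw [Fintype.sum_prod_type]
      simp_rw [← TensorProduct.tmul_sum, ← TensorProduct.sum_tmul]
      rw [h, h', Algebra.algebraMap_eq_smul_one, Algebra.algebraMap_eq_smul_one,
        TensorProduct.smul_tmul_smul]
      simp [Algebra.algebraMap_eq_smul_one, Algebra.TensorProduct.one_def]
    | add a b ha hb =>
      simp only [mul_add, add_mul, Finset.sum_add_distrib, map_add, ha, hb]

theorem isAzumaya_tensor [IsAzumaya R A] [IsAzumaya R B] : IsAzumaya R (A ⊗[R] B) := by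
  obtain ⟨f, hf⟩ := exists_linear_one (R := R) (A := A)
  obtain ⟨g, hg⟩ := exists_linear_one (R := R) (A := B)
  have : FaithfulSMul R (A ⊗[R] B) := by
    refine faithful_of_linear_one ((TensorProduct.lid R R).toLinearMap ∘ₗ
      TensorProduct.map f g) ?_
    simp [Algebra.TensorProduct.one_def, hf, hg]
  exact isAzumaya_of_has (has_tensor has_of_isAzumaya has_of_isAzumaya)

/-- If `A ⊗ B` is Azumaya and `R` is a direct summand of `A` then `B` is Azumaya. -/
theorem isAzumaya_right_of_tensor (f : A →ₗ[R] R) (hf : f 1 = 1) [IsAzumaya R (A ⊗[R] B)] :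
    IsAzumaya R B := by
  let F : A ⊗[R] B →ₗ[R] B := (TensorProduct.lid R B).toLinearMap ∘ₗ f.rTensor B
  have hF : ∀ a b, F (a ⊗ₜ b) = f a • b := fun a b => by simp [F]
  have hF1 : ∀ b, F (1 ⊗ₜ b) = b := fun b => by simp [F, hf]
  obtain ⟨n, x, g, hx, ht⟩ := has_of_isAzumaya (R := R) (A := A ⊗[R] B)
  have hfaith : FaithfulSMul R B := by
    refine ⟨fun {r s} hrs => ?_⟩
    apply FaithfulSMul.eq_of_smul_eq_smul (α := A ⊗[R] B)
    intro z
    induction z using TensorProduct.induction_on with
    | zero => simp
    | tmul a b => rw [← TensorProduct.tmul_smul, ← TensorProduct.tmul_smul, hrs]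
    | add a b ha hb => rw [smul_add, smul_add, ha, hb]
  have key : ∀ z : (A ⊗[R] B), ∀ b c : B, F ((1 ⊗ₜ b) * z * (1 ⊗ₜ c)) = b * F z * c := by
    intro z b c
    induction z using TensorProduct.induction_on with
    | zero => simp
    | tmul a b' => simp [hF]
    | add a b ha hb => simp only [mul_add, add_mul, map_add, ha, hb]
  refine isAzumaya_of_has (Has.of_fintype (fun i => F (x i))
    (fun i => (g i) ∘ₗ (TensorProduct.mk R A B 1)) (fun a => ?_) (fun i => ?_))
  · conv_rhs => rw [← hF1 a, ← hx (1 ⊗ₜ a)]
    simp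
  · obtain ⟨m, c, d, h⟩ := ht i
    -- for all z, w in A ⊗ B and b, F (z * (1 ⊗ b) * w) is a sandwich
    have h2 : ∀ z w : A ⊗[R] B, ∃ (κ : Type) (_ : Fintype κ) (c d : κ → B), ∀ b : B,
        ∑ l, c l * b * d l = F (z * (1 ⊗ₜ b) * w) := by
      intro z w
      induction z using TensorProduct.induction_on with
      | zero => exact ⟨Empty, inferInstance, fun _ => 0, fun _ => 0, by simp⟩
      | tmul a b' =>
        induction w using TensorProduct.induction_on with
        | zero => exact ⟨Empty, inferInstance, fun _ => 0, fun _ => 0, by simp⟩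
        | tmul a' b'' => 
          exact ⟨Unit, inferInstance, fun _ => f (a * a') • b', fun _ => b'', by simp [hF]⟩
        | add w w' hw hw' =>
          obtain ⟨κ, _, c, d, h⟩ := hw
          obtain ⟨κ', _, c', d', h'⟩ := hw'
          exact ⟨κ ⊕ κ', inferInstance, Sum.elim c c', Sum.elim d d', fun b => by
            simp [Fintype.sum_sum_type, mul_add, h, h']⟩
      | add z z' hz hz' =>
        obtain ⟨κ, _, c, d, h⟩ := hz
        obtain ⟨κ', _, c', d', h'⟩ := hz'
        exact ⟨κ ⊕ κ', inferInstance, Sum.elim c c', Sum.elim d d', fun b => by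
            simp [Fintype.sum_sum_type, add_mul, h, h']⟩
    choose κ hκ c' d' h' using h2
    refine ⟨Σ l : Fin m, κ (c l) (d l), inferInstance, fun p => c' (c p.1) (d p.1) p.2,
      fun p => d' (c p.1) (d p.1) p.2, fun b => ?_⟩
    rw [Fintype.sum_sigma]
    simp_rw [h']
    rw [← map_sum, h]
    rw [Algebra.algebraMap_eq_smul_one, map_smul, Algebra.TensorProduct.one_def, hF1,
      Algebra.algebraMap_eq_smul_one]
    rfl

end tensor

section endo

variable {R : Type u} [CommRing R] {P : Type v} [AddCommGroup P] [Module R P]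

theorem isAzumaya_end [Module.Finite R P] [Module.Projective R P] [FaithfulSMul R P] :
    IsAzumaya R (Module.End R P) := by
  obtain ⟨n, x, f, hx⟩ := exists_dualBasis (R := R) (P := P)
  have hfaith : FaithfulSMul R (Module.End R P) := by
    refine ⟨fun {r s} hrs => ?_⟩
    apply FaithfulSMul.eq_of_smul_eq_smul (α := P)
    intro p
    simpa using LinearMap.congr_fun (hrs 1) p
  refine isAzumaya_of_has (Has.of_fintype (ι := Fin n × Fin n)
    (fun p => (f p.1).smulRight (x p.2))
    (fun p => (f p.2) ∘ₗ (LinearMap.applyₗ (x p.1))) (fun g => ?_) (fun p => ?_))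
  · ext p
    rw [Fintype.sum_prod_type, LinearMap.sum_apply]
    conv_rhs => rw [← hx p, map_sum]
    refine Finset.sum_congr rfl (fun i _ => ?_)
    rw [map_smul, LinearMap.sum_apply]
    conv_rhs => rw [← hx (g (x i)), Finset.smul_sum]
    refine Finset.sum_congr rfl (fun j _ => ?_)
    simp [smul_smul, mul_comm]
  · refine ⟨Fin n, inferInstance, fun l => (f p.2).smulRight (x l),
      fun l => (f l).smulRight (x p.1), fun g => ?_⟩
    ext q
    rw [LinearMap.sum_apply]
    conv_rhs => rw [Algebra.algebraMap_eq_smul_one, LinearMap.smul_apply, Module.End.one_apply,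
      ← hx q, Finset.smul_sum]
    refine Finset.sum_congr rfl (fun j _ => ?_)
    simp [smul_smul, mul_comm]

end endo

end K444.AzOps
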