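import Mathlib.RingTheory.Spectrum.Prime.FreeLocus
import Mathlib.RingTheory.Idempotents
import Mathlib.Algebra.Module.Projective
import Mathlib.RingTheory.TensorProduct.Basic
import Mathlib.RingTheory.Spectrum.Prime.Topology
import Mathlib.RingTheory.Ideal.IdempotentFG
import Groth.Agent.Brauer.K444.AzData

/-!
# Finite projective modules over a ring with connected spectrum
-/

set_option autoImplicit false
universe u v w
open scoped TensorProduct

namespace K444.ConnRank

variable {R : Type u} [CommRing R] [ConnectedSpace (PrimeSpectrum R)]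

theorem rank_const (M : Type v) [AddCommGroup M] [Module R M] [Module.Finite R M]
    [Module.Projective R M] (p q : PrimeSpectrum R) :
    Module.rankAtStalk (R := R) M p = Module.rankAtStalk (R := R) M q := by
  have : Module.FinitePresentation R M := Module.finitePresentation_of_projective R M
  exact (Module.isLocallyConstant_rankAtStalk (R := R) (M := M)).apply_eq_of_isPreconnected
    isPreconnected_univ trivial trivial

theorem subsingleton_of_baseChange (M : Type v) [AddCommGroup M] [Module R M] [Module.Finite R M]
    [Module.Projective R M] (R' : Type w) [CommRing R'] [Nontrivial R'] [Algebra R R']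
    (h : Subsingleton (R' ⊗[R] M)) : Subsingleton M := by
  obtain ⟨q⟩ : Nonempty (PrimeSpectrum R') := inferInstance
  have h1 : Module.rankAtStalk (R := R') (R' ⊗[R] M) q = 0 := by
    rw [Module.rankAtStalk_eq_zero_of_subsingleton]; rfl
  rw [Module.rankAtStalk_baseChange] at h1
  rw [← Module.rankAtStalk_eq_zero_iff_subsingleton (R := R)]
  ext p
  rw [rank_const M p _, h1]
  rfl

theorem rank_pos (M : Type v) [AddCommGroup M] [Module R M] [Module.Finite R M]
    [Module.Projective R M] [Nontrivial M] (p : PrimeSpectrum R) :
    0 < Module.rankAtStalk (R := R) M p := by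
  by_contra hcon
  have h0 : Module.rankAtStalk (R := R) M p = 0 := by omega
  have : Subsingleton M := by
    rw [← Module.rankAtStalk_eq_zero_iff_subsingleton (R := R)]
    ext q
    rw [rank_const M q p, h0]
    rfl
  exact not_subsingleton M this

theorem idem_trivial {e : R} (he : IsIdempotentElem e) : e = 0 ∨ e = 1 := by
  have h1 := isClopen_iff.mp (PrimeSpectrum.isClopen_iff.mpr ⟨e, he, rfl⟩)
  rcases h1 with h1 | h1
  · left
    apply PrimeSpectrum.basicOpen_injOn_isIdempotentElem he IsIdempotentElem.zero
    ext1
    rw [h1, PrimeSpectrum.basicOpen_zero]; rfl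
  · right
    apply PrimeSpectrum.basicOpen_injOn_isIdempotentElem he IsIdempotentElem.one
    ext1
    rw [h1, PrimeSpectrum.basicOpen_one]; rfl

/-- A nonzero finite projective module over a ring with connected spectrum has trace ideal `R`. -/
theorem exists_trace_one (M : Type v) [AddCommGroup M] [Module R M] [Module.Finite R M]
    [Module.Projective R M] [Nontrivial M] :
    ∃ (n : ℕ) (y : Fin n → M) (g : Fin n → M →ₗ[R] R), ∑ i, g i (y i) = 1 := by
  classical
  obtain ⟨n, x, f, hx⟩ := AzData.exists_dualBasis (R := R) (P := M)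
  let I : Ideal R := Ideal.span (Set.range fun p : Fin n × Fin n => f p.1 (x p.2))
  have hI : ∀ (g : M →ₗ[R] R) (m : M), g m ∈ I := by
    intro g m
    have h1 : g m = ∑ i, ∑ j, g (x i) * (f j m * f i (x j)) := by
      conv_lhs => rw [← hx m]
      simp_rw [map_sum, map_smul]
      rw [Finset.sum_comm]
      refine Finset.sum_congr rfl (fun j _ => ?_)
      conv_lhs => rw [← hx (x j)]
      simp only [map_sum, map_smul, smul_eq_mul, Finset.mul_sum]
      refine Finset.sum_congr rfl (fun i _ => ?_)
      ring
    rw [h1]
    exact Ideal.sum_mem _ (fun i _ => Ideal.sum_mem _ (fun j _ =>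
      Ideal.mul_mem_left _ _ (Ideal.mul_mem_left _ _ (Ideal.subset_span ⟨(i, j), rfl⟩))))
  have hfg : I.FG := ⟨Finset.univ.image (fun p : Fin n × Fin n => f p.1 (x p.2)), by
    simp [I]⟩
  have hidem : IsIdempotentElem I := by
    apply le_antisymm Ideal.mul_le_right
    rw [Ideal.span_le]
    rintro _ ⟨⟨i, j⟩, rfl⟩
    change f i (x j) ∈ I * I
    conv => arg 2; rw [← hx (x j)]
    rw [map_sum]
    refine Ideal.sum_mem _ (fun l _ => ?_)
    rw [map_smul, smul_eq_mul]
    exact Ideal.mul_mem_mul (hI _ _) (hI _ _)
  obtain ⟨e, he, hIe⟩ := (Ideal.isIdempotentElem_iff_of_fg I hfg).1 hidem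
  rcases idem_trivial he with rfl | rfl
  · exfalso
    have h0 : ∀ (g : M →ₗ[R] R) (m : M), g m = 0 := by
      intro g m
      have := hI g m
      rw [hIe] at this
      simpa using this
    apply not_subsingleton M
    refine ⟨fun a b => ?_⟩
    rw [← hx a, ← hx b]
    simp [h0]
  · have h1 : (1 : R) ∈ I := by rw [hIe]; exact Ideal.subset_span rfl
    obtain ⟨c, hc⟩ := (Ideal.mem_span_range_iff_exists_fun).1 h1
    let e := (Fintype.equivFin (Fin n × Fin n))
    refine ⟨Fintype.card (Fin n × Fin n), fun i => x (e.symm i).2, fun i => c (e.symm i) •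
      f (e.symm i).1, ?_⟩
    rw [← hc, ← Equiv.sum_comp e.symm]
    rfl

theorem faithful_of_nontrivial (M : Type v) [AddCommGroup M] [Module R M] [Module.Finite R M]
    [Module.Projective R M] [Nontrivial M] : FaithfulSMul R M := by
  obtain ⟨n, y, g, h⟩ := exists_trace_one (R := R) M
  exact AzData.faithful_of_trace y g h

variable {A : Type v} [Ring A] [Algebra R A] [Module.Finite R A] [Module.Projective R A]

omit [ConnectedSpace (PrimeSpectrum R)] [Module.Projective R A] in
theorem finite_range_mulLeft (e : A) : Module.Finite R (LinearMap.range (LinearMap.mulLeft R e)) :=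
  Module.Finite.range _

omit [ConnectedSpace (PrimeSpectrum R)] [Module.Finite R A] in
theorem projective_range_mulLeft {e : A} (he : IsIdempotentElem e) :
    Module.Projective R (LinearMap.range (LinearMap.mulLeft R e)) := by
  refine Module.Projective.of_split (LinearMap.range (LinearMap.mulLeft R e)).subtype
    (LinearMap.mulLeft R e).rangeRestrict ?_
  ext ⟨x, y, rfl⟩
  simp [← mul_assoc, he.eq]

theorem idem_zero {e : A} (he : IsIdempotentElem e) (R' : Type w) [CommRing R'] [Nontrivial R']
    [Algebra R R'] (h : (1 : R') ⊗ₜ[R] e = (0 : R' ⊗[R] A)) : e = 0 := by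
  have := projective_range_mulLeft (R := R) he
  have := finite_range_mulLeft (R := R) e
  have hs : Subsingleton (R' ⊗[R] (LinearMap.range (LinearMap.mulLeft R e))) := by
    refine ⟨fun a b => ?_⟩
    have key : ∀ a : R' ⊗[R] (LinearMap.range (LinearMap.mulLeft R e)), a = 0 := by
      intro a
      have h1 : (LinearMap.mulLeft R e).rangeRestrict ∘ₗ 
          (LinearMap.range (LinearMap.mulLeft R e)).subtype = LinearMap.id := by
        ext ⟨x, y, rfl⟩
        simp [← mul_assoc, he.eq]
      have h2 : ((LinearMap.mulLeft R e).rangeRestrict.lTensor R')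
          (((LinearMap.range (LinearMap.mulLeft R e)).subtype.lTensor R') a) = a := by
        rw [← LinearMap.lTensor_comp_apply, h1, LinearMap.lTensor_id]; rfl
      rw [← h2]
      have h3 : ∀ a, ((LinearMap.range (LinearMap.mulLeft R e)).subtype.lTensor R') a = 0 := by
        intro a
        induction a using TensorProduct.induction_on with
        | zero => simp
        | tmul r x =>
          obtain ⟨x, y, rfl⟩ := x
          have : r ⊗ₜ[R] (e * y) = (1 ⊗ₜ[R] e) * (r ⊗ₜ[R] y) := by simp
          simp [this, h]
        | add a b ha hb => rw [map_add, ha, hb, add_zero]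
      rw [h3, map_zero]
    rw [key a, key b]
  have := subsingleton_of_baseChange _ R' hs
  have h1 : (⟨e, ⟨1, by simp⟩⟩ : (LinearMap.range (LinearMap.mulLeft R e))) = 0 :=
    Subsingleton.elim _ _
  exact congrArg Subtype.val h1

end K444.ConnRank
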