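import Groth.Agent.Brauer.K444.AzOp
import Groth.Agent.Brauer.K444.ConnRank

/-!
# Finite projective modules over an Azumaya algebra
-/

set_option autoImplicit false
universe u v w w'
open scoped TensorProduct
open MulOpposite

namespace K444.AzMod

open K444.AzData

section tower

variable (R : Type u) [CommRing R] (A : Type v) [Ring A] [Algebra R A]
  (M : Type w) [AddCommGroup M] [Module R M] [Module A M] [IsScalarTower R A M]

theorem finite_tower [Module.Finite R A] [Module.Finite A M] : Module.Finite R M :=
  Module.Finite.trans A M

theorem projective_tower [Module.Projective R A] [Module.Projective A M] :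
    Module.Projective R M := by
  classical
  obtain ⟨s, hs⟩ := (Module.projective_def (R := A) (P := M)).1 inferInstance
  have : Module.Projective R (M →₀ A) :=
    Module.Projective.of_equiv (finsuppLequivDFinsupp R (ι := M) (M := A)).symm
  refine Module.Projective.of_split (s.restrictScalars R)
    ((Finsupp.linearCombination A (id : M → M)).restrictScalars R) ?_
  ext m
  exact hs m

end tower

section idem

variable (A : Type v) [Ring A] (M : Type w) [AddCommGroup M] [Module A M]

theorem projective_range [Module.Projective A M] {g : Module.End A M} (hg : IsIdempotentElem g) :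
    Module.Projective A (LinearMap.range g) := by
  refine Module.Projective.of_split (LinearMap.range g).subtype g.rangeRestrict ?_
  ext ⟨x, y, rfl⟩
  exact LinearMap.congr_fun hg.eq y

theorem finite_range [Module.Finite A M] (g : Module.End A M) :
    Module.Finite A (LinearMap.range g) := Module.Finite.range g

end idem

section rank

variable {R : Type u} [CommRing R] {A : Type v} [Ring A] [Algebra R A]
  {M : Type w} [AddCommGroup M] [Module R M] [Module A M] [IsScalarTower R A M]

/-- Rank of a direct sum decomposition given by an idempotent. -/
theorem rank_add [Module.Finite R M] [Module.Projective R M] {g : Module.End R M}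
    (hg : IsIdempotentElem g) (p : PrimeSpectrum R) :
    Module.rankAtStalk (R := R) (LinearMap.range g) p +
      Module.rankAtStalk (R := R) (LinearMap.range (1 - g)) p = Module.rankAtStalk (R := R) M p := by
  have := projective_range R M hg
  have := projective_range R M hg.one_sub
  have hc : IsCompl (LinearMap.range g) (LinearMap.range (1 - g)) := by
    constructor
    · rw [Submodule.disjoint_def]
      rintro _ ⟨x, rfl⟩ ⟨y, hy⟩
      have h1 : g (g x) = g x := LinearMap.congr_fun hg.eq x
      rw [← h1, ← hy]
      have h2 : g (g y) = g y := LinearMap.congr_fun hg.eq y
      simp [h2]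
    · rw [codisjoint_iff, eq_top_iff]
      intro x _
      exact Submodule.mem_sup.2 ⟨g x, ⟨x, rfl⟩, (1 - g) x, ⟨x, rfl⟩, by simp⟩
  have e := Submodule.prodEquivOfIsCompl _ _ hc
  rw [← Module.rankAtStalk_eq_of_equiv e, Module.rankAtStalk_prod]
  rfl

end rank

end K444.AzMod
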