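import Groth.Agent.Brauer.K444.DoubleCent

/-!
# The opposite of an Azumaya algebra, `A ⊗ Aᵒᵖ ≃ End A`
-/

set_option autoImplicit false
universe u v w w'
open scoped TensorProduct
open MulOpposite

namespace K444.AzOp

open K444.AzData

variable {R : Type u} [CommRing R] {A : Type v} [Ring A] [Algebra R A]

theorem has_op (h : Has R A) : Has R Aᵐᵒᵖ := by
  obtain ⟨n, x, f, hx, ht⟩ := h
  refine ⟨n, fun i => op (x i), fun i => f i ∘ₗ (opLinearEquiv R (M := A)).symm.toLinearMap,
    fun a => ?_, fun i => ?_⟩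
  · apply unop_injective
    rw [Finset.unop_sum]
    simpa using hx a.unop
  · obtain ⟨m, c, d, h⟩ := ht i
    refine ⟨m, fun l => op (d l), fun l => op (c l), fun a => ?_⟩
    apply unop_injective
    rw [Finset.unop_sum]
    simpa [mul_assoc] using h a.unop

theorem isAzumaya_op [IsAzumaya R A] : IsAzumaya R Aᵐᵒᵖ := by
  have : FaithfulSMul R Aᵐᵒᵖ := by
    refine ⟨fun {r s} hrs => ?_⟩
    apply FaithfulSMul.eq_of_smul_eq_smul (α := A)
    intro a
    exact op_injective (hrs (op a))
  exact isAzumaya_of_has (has_op has_of_isAzumaya)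

variable (R A) in
noncomputable def tensorOpEquivEnd [IsAzumaya R A] : A ⊗[R] Aᵐᵒᵖ ≃ₐ[R] Module.End R A :=
  AlgEquiv.ofBijective (AlgHom.mulLeftRight R A) IsAzumaya.bij

end K444.AzOp
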