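import Groth.Agent.Brauer.K444.AzOps
import Mathlib.Algebra.Central.Defs

/-!
# Double centralizer theorem for Azumaya algebras
-/

set_option autoImplicit false
universe u v w w'
open scoped TensorProduct
open MulOpposite

namespace K444.DoubleCent

open K444.AzData

variable {R : Type u} [CommRing R] {A : Type v} [Ring A] [Algebra R A]

theorem exists_data [IsAzumaya R A] : ∃ (n : ℕ) (x : Fin n → A) (f : Fin n → A →ₗ[R] R)
    (m : Fin n → ℕ) (c d : ∀ i, Fin (m i) → A), (∀ a, ∑ i, f i a • x i = a) ∧
    (∀ i a, ∑ l, c i l * a * d i l = algebraMap R A (f i a)) ∧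
    (∀ i a, ∑ l, (a * c i l) ⊗ₜ[R] d i l = ∑ l, c i l ⊗ₜ[R] (d i l * a)) ∧
    (∑ i, ∑ l, (x i * c i l) ⊗ₜ[R] d i l = (1 : A) ⊗ₜ[R] (1 : A)) := by
  obtain ⟨n, x, f, hx, ht⟩ := has_of_isAzumaya (R := R) (A := A)
  choose m c d h using ht
  have inj : Function.Injective ((AlgHom.mulLeftRight R A).toLinearMap ∘ₗ
      (TensorProduct.congr (LinearEquiv.refl R A) (opLinearEquiv R (M := A))).toLinearMap) :=
    (IsAzumaya.bij (R := R) (A := A)).1.comp (LinearEquiv.injective _)
  refine ⟨n, x, f, m, c, d, hx, h, fun i a => ?_, ?_⟩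
  · apply inj
    ext b
    simp only [map_sum, LinearMap.comp_apply, LinearEquiv.coe_coe, TensorProduct.congr_tmul,
      LinearEquiv.refl_apply, AlgHom.toLinearMap_apply, coe_opLinearEquiv,
      AlgHom.mulLeftRight_apply, LinearMap.sum_apply, unop_op]
    simp_rw [mul_assoc]
    rw [← Finset.mul_sum]
    simp_rw [← mul_assoc]
    rw [← Finset.sum_mul, h, Algebra.commutes]
  · apply inj
    ext b
    simp only [map_sum, LinearMap.comp_apply, LinearEquiv.coe_coe, TensorProduct.congr_tmul,
      LinearEquiv.refl_apply, AlgHom.toLinearMap_apply, coe_opLinearEquiv,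
      AlgHom.mulLeftRight_apply, LinearMap.sum_apply, unop_op]
    conv_rhs => rw [one_mul, mul_one, ← hx b]
    refine Finset.sum_congr rfl (fun i _ => ?_)
    simp_rw [mul_assoc]
    rw [← Finset.mul_sum]
    simp_rw [← mul_assoc]
    rw [h, ← Algebra.commutes, ← Algebra.smul_def]

/-- The centre of an Azumaya algebra is the base ring. -/
theorem isCentral [IsAzumaya R A] : Algebra.IsCentral R A := by
  obtain ⟨f, hf⟩ := exists_linear_one (R := R) (A := A)
  obtain ⟨t, ht⟩ := IsAzumaya.bij (R := R) (A := A).2 ((Algebra.linearMap R A) ∘ₗ f)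
  obtain ⟨m, c, d, hcd⟩ := (mem_range_mulLeftRight_iff _).1 ⟨t, ht⟩
  refine ⟨fun z hz => ?_⟩
  rw [Subalgebra.mem_center_iff] at hz
  rw [Algebra.mem_bot]
  refine ⟨f z, ?_⟩
  have h1 := hcd 1
  have h2 := hcd z
  simp only [LinearMap.comp_apply, Algebra.linearMap_apply] at h1 h2
  rw [← h2]
  have h3 : ∑ l, c l * z * d l = (∑ l, c l * 1 * d l) * z := by
    rw [Finset.sum_mul]
    refine Finset.sum_congr rfl (fun l _ => ?_)
    rw [mul_one, mul_assoc, mul_assoc, ← hz (d l)]
  rw [h3, h1, hf, map_one, one_mul]

section centralizer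

variable {C : Type w} [Ring C] [Algebra R C] {D : Type w'} [Ring D] [Algebra R D]

/-- Double centralizer: if `D` is the centralizer of an Azumaya algebra `A` in `C`
then `A ⊗ D = C`. -/
theorem lift_bijective [IsAzumaya R A] (j : A →ₐ[R] C) (k : D →ₐ[R] C)
    (hk : Function.Injective k) (hcomm : ∀ a x, Commute (j a) (k x))
    (hrange : ∀ z : C, (∀ a, j a * z = z * j a) → ∃ x, k x = z) :
    Function.Bijective (Algebra.TensorProduct.lift j k hcomm) := by
  obtain ⟨n, x, f, m, c, d, hx, h, h1, h2⟩ := exists_data (R := R) (A := A)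
  -- the bilinear sandwich map
  let S : C → (A ⊗[R] A →ₗ[R] C) := fun z =>
    TensorProduct.lift ((LinearMap.mul R C).compl₁₂ ((LinearMap.mulRight R z) ∘ₗ j.toLinearMap)
      j.toLinearMap)
  have hS : ∀ z a b, S z (a ⊗ₜ b) = j a * z * j b := fun z a b => by simp [S]
  let E : Fin n → C →ₗ[R] C := fun i => ∑ l, (LinearMap.mulLeft R (j (c i l))) ∘ₗ
    (LinearMap.mulRight R (j (d i l)))
  have hE : ∀ i z, E i z = ∑ l, j (c i l) * z * j (d i l) := fun i z => by
    simp [E, mul_assoc]
  have hcent : ∀ i z a, j a * E i z = E i z * j a := by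
    intro i z a
    have h3 := congrArg (S z) (h1 i a)
    simp only [map_sum, hS, map_mul] at h3
    rw [hE, Finset.mul_sum, Finset.sum_mul]
    simpa [mul_assoc] using h3
  have hsum : ∀ z, ∑ i, j (x i) * E i z = z := by
    intro z
    have h3 := congrArg (S z) h2
    simp only [map_sum, hS, map_mul, map_one, one_mul, mul_one] at h3
    simp_rw [hE, Finset.mul_sum]
    simpa [mul_assoc] using h3
  choose g hg using fun i z => hrange (E i z) (hcent i z)
  have hEk : ∀ i a y, E i (j a * k y) = f i a • k y := by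
    intro i a y
    rw [hE]
    have : ∀ l, j (c i l) * (j a * k y) * j (d i l) = j (c i l * a * d i l) * k y := by
      intro l
      rw [map_mul, map_mul, mul_assoc, mul_assoc, ← (hcomm (d i l) y).eq]
      simp [mul_assoc]
    simp_rw [this]
    rw [← Finset.sum_mul, ← map_sum, h, AlgHom.commutes, Algebra.smul_def]
  constructor
  · have key : ∀ t : A ⊗[R] D, t = ∑ i, x i ⊗ₜ[R] g i (Algebra.TensorProduct.lift j k hcomm t) := by
      intro t
      induction t using TensorProduct.induction_on with
      | zero =>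
        have : ∀ i, g i 0 = 0 := fun i => hk (by rw [hg, map_zero, map_zero])
        simp [this]
      | tmul a y =>
        have : ∀ i, g i (j a * k y) = f i a • y := fun i => hk (by rw [hg, hEk, map_smul])
        conv_lhs => rw [← hx a, TensorProduct.sum_tmul]
        refine Finset.sum_congr rfl (fun i _ => ?_)
        rw [Algebra.TensorProduct.lift_tmul, this, TensorProduct.smul_tmul]
      | add s t hs ht =>
        have : ∀ i z z', g i (z + z') = g i z + g i z' := fun i z z' => hk (by
          rw [hg, map_add, map_add, hg, hg])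
        conv_lhs => rw [hs, ht]
        simp only [map_add, this, TensorProduct.tmul_add, Finset.sum_add_distrib]
    intro s t hst
    rw [key s, key t, hst]
  · intro z
    refine ⟨∑ i, x i ⊗ₜ g i z, ?_⟩
    rw [map_sum]
    simp only [Algebra.TensorProduct.lift_tmul, hg, hsum]

end centralizer

section endo

variable (M : Type w) [AddCommGroup M] [Module R M] [Module A M] [IsScalarTower R A M]

variable (R A) in
/-- `Module.End A M → Module.End R M` as an algebra map. -/
def endRestrict : Module.End A M →ₐ[R] Module.End R M where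
  toFun g := g.restrictScalars R
  map_one' := rfl
  map_mul' _ _ := rfl
  map_zero' := rfl
  map_add' _ _ := rfl
  commutes' _ := rfl

variable (R A) in
/-- The map `A ⊗ End_A(M) → End_R(M)`. -/
def tensorEndHom : A ⊗[R] (Module.End A M) →ₐ[R] Module.End R M :=
  Algebra.TensorProduct.lift (Algebra.lsmul R R M) (endRestrict R A M) (fun a g => by
    ext m
    exact (map_smul g a m).symm)

/-- Double centralizer theorem: `A ⊗ End_A(M) ≃ End_R(M)` for `A` Azumaya. -/
theorem tensorEndHom_bijective [IsAzumaya R A] : Function.Bijective (tensorEndHom R A M) := by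
  refine lift_bijective _ _ (fun f g h => ?_) _ (fun z hz => ?_)
  · ext m
    exact LinearMap.congr_fun h m
  · refine ⟨{ toFun := z, map_add' := map_add z, map_smul' := fun a m => ?_ }, rfl⟩
    exact (LinearMap.congr_fun (hz a) m).symm

variable (R A) in
noncomputable def tensorEndEquiv [IsAzumaya R A] : A ⊗[R] (Module.End A M) ≃ₐ[R] Module.End R M :=
  AlgEquiv.ofBijective (tensorEndHom R A M) (tensorEndHom_bijective M)

end endo

end K444.DoubleCent
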