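import Groth.Agent.CurvesA.SkolemNoether
import Groth.Agent.Brauer.K444.DoubleCent
import Mathlib.LinearAlgebra.Dual.Lemmas

/-!
# Modules over finite dimensional simple algebras; Azumaya algebras over fields are simple
-/

set_option autoImplicit false
universe u v w w'
open scoped TensorProduct

namespace K444.SimpleMods

/-- Over a simple artinian algebra a module of smaller dimension is a direct summand. -/
theorem exists_split_of_finrank_le (k : Type*) [Field k] (R : Type*) [Ring R] [Algebra k R]
    [IsSimpleRing R] [IsArtinianRing R]
    (M N : Type*) [AddCommGroup M] [Module R M] [Module k M] [IsScalarTower k R M]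
    [FiniteDimensional k M]
    [AddCommGroup N] [Module R N] [Module k N] [IsScalarTower k R N] [FiniteDimensional k N]
    (h : Module.finrank k N ≤ Module.finrank k M) :
    ∃ (p : M →ₗ[R] N) (i : N →ₗ[R] M), ∀ x, p (i x) = x := by
  have hfM : Module.Finite R M := Module.Finite.of_restrictScalars_finite k R M
  have hfN : Module.Finite R N := Module.Finite.of_restrictScalars_finite k R N
  rcases subsingleton_or_nontrivial M with hM | hM
  · have hN : Subsingleton N := by
      rw [← Module.finrank_zero_iff (R := k)]
      have := Module.finrank_zero_of_subsingleton (R := k) (M := M)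
      omega
    exact ⟨0, 0, fun x => Subsingleton.elim _ _⟩
  · obtain ⟨S, hS⟩ := IsAtomic.exists_atom (Submodule R M)
    have hS' := isSimpleModule_iff_isAtom.mpr hS
    let i₁ : M →ₗ[R] M × N := LinearMap.inl R M N
    let i₂ : N →ₗ[R] M × N := LinearMap.inr R M N
    have hi₁ : Function.Injective i₁ := LinearMap.inl_injective
    have hi₂ : Function.Injective i₂ := LinearMap.inr_injective
    let S' : Submodule R (M × N) := S.map i₁
    have e0 : S ≃ₗ[R] S' := S.equivMapOfInjective i₁ hi₁
    have hS'' : IsSimpleModule R S' := IsSimpleModule.congr e0.symm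
    have hiso := IsSimpleRing.isIsotypic R (M × N) S'
    have hisoM : IsIsotypicOfType R M S' := hiso.of_injective i₁ hi₁
    have hisoN : IsIsotypicOfType R N S' := hiso.of_injective i₂ hi₂
    obtain ⟨a, ⟨ea⟩⟩ := hisoM.linearEquiv_fun
    obtain ⟨b, ⟨eb⟩⟩ := hisoN.linearEquiv_fun
    have hfS : FiniteDimensional k S := by
      exact inferInstanceAs (FiniteDimensional k (S.restrictScalars k))
    have hfS' : FiniteDimensional k S' := Module.Finite.equiv (e0.restrictScalars k)
    have ha : Module.finrank k M = a * Module.finrank k S' := by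
      rw [LinearEquiv.finrank_eq (ea.restrictScalars k), Module.finrank_pi_fintype]
      simp
    have hb : Module.finrank k N = b * Module.finrank k S' := by
      rw [LinearEquiv.finrank_eq (eb.restrictScalars k), Module.finrank_pi_fintype]
      simp
    have hpos : 0 < Module.finrank k S' := by
      have : Nontrivial S' := IsSimpleModule.nontrivial R S'
      exact Module.finrank_pos
    have hab : b ≤ a := by
      rw [ha, hb] at h
      exact Nat.le_of_mul_le_mul_right h hpos
    let P : (Fin a → S') →ₗ[R] (Fin b → S') := LinearMap.funLeft R S' (Fin.castLE hab)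
    let I : (Fin b → S') →ₗ[R] (Fin a → S') := LinearMap.pi (fun j =>
      if hj : j.1 < b then LinearMap.proj ⟨j.1, hj⟩ else 0)
    refine ⟨eb.symm.toLinearMap ∘ₗ P ∘ₗ ea.toLinearMap,
      ea.symm.toLinearMap ∘ₗ I ∘ₗ eb.toLinearMap, fun x => ?_⟩
    simp only [LinearMap.comp_apply, LinearEquiv.coe_coe, LinearEquiv.apply_symm_apply]
    apply eb.injective
    rw [LinearEquiv.apply_symm_apply]
    ext1 j
    simp [P, I, LinearMap.funLeft_apply]

/-- An Azumaya algebra over a field is simple. -/
theorem isSimpleRing_of_isAzumaya (k : Type u) [Field k] (A : Type v) [Ring A] [Algebra k A]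
    [IsAzumaya k A] : IsSimpleRing A := by
  have hnt : Nontrivial A := (FaithfulSMul.algebraMap_injective k A).nontrivial
  refine ⟨⟨?_⟩⟩
  intro I
  by_cases hI : I = ⊥
  · left; exact hI
  · right
    obtain ⟨x, hx, hx0⟩ : ∃ x ∈ I, x ≠ 0 := by
      by_contra hcon
      push Not at hcon
      apply hI
      rw [eq_bot_iff]
      intro x hx
      simpa using hcon x hx
    have hstab : ∀ (f : Module.End k A), f x ∈ I := by
      intro f
      obtain ⟨t, rfl⟩ := (IsAzumaya.bij (R := k) (A := A)).2 f
      induction t using TensorProduct.induction_on with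
      | zero => simp [I.zero_mem]
      | tmul y z =>
        rw [AlgHom.mulLeftRight_apply]
        exact I.mul_mem_right _ _ (I.mul_mem_left _ _ hx)
      | add y z hy hz =>
        rw [map_add, LinearMap.add_apply]
        exact I.add_mem hy hz
    rw [eq_top_iff]
    intro y _
    obtain ⟨f, hf⟩ : ∃ f : Module.Dual k A, f x ≠ 0 := by
      by_contra hcon
      push Not at hcon
      exact hx0 ((Module.forall_dual_apply_eq_zero_iff k x).1 hcon)
    have h2 := hstab (f.smulRight ((f x)⁻¹ • y))
    rw [LinearMap.smulRight_apply, smul_smul, mul_inv_cancel₀ hf, one_smul] at h2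
    exact h2

end K444.SimpleMods
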