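import Groth.Agent.Brauer.K444.AzMod
import Groth.Agent.Brauer.K444.SimpleMods
import Mathlib.LinearAlgebra.TensorProduct.RightExactness
import Mathlib.RingTheory.TensorProduct.Maps
import Mathlib.RingTheory.Ideal.Quotient.Basic

/-!
# Base change of modules over an algebra; lifting maps from a residue field
-/

set_option autoImplicit false
universe u v w w' w''
open scoped TensorProduct

namespace K444.BCMod

section module

variable (R : Type u) [CommRing R] (S : Type w'') [CommRing S] [Algebra R S]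
  (A : Type v) [Ring A] [Algebra R A]
  (M : Type w) [AddCommGroup M] [Module R M] [Module A M] [IsScalarTower R A M]

/-- The action of `S ⊗ A` on `S ⊗ M`. -/
noncomputable def act : S ⊗[R] A →ₐ[S] Module.End S (S ⊗[R] M) :=
  (LinearMap.tensorProductEnd R S M).comp
    (Algebra.TensorProduct.map (AlgHom.id S S) (Algebra.lsmul R R M))

theorem act_tmul (s : S) (a : A) (t : S) (m : M) :
    act R S A M (s ⊗ₜ a) (t ⊗ₜ m) = (s * t) ⊗ₜ (a • m) := by
  simp [act, LinearMap.tensorProductEnd, LinearMap.tensorProduct, TensorProduct.smul_tmul']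

/-- The `S ⊗ A`-module structure on `S ⊗ M`. -/
@[reducible] noncomputable def mod : Module (S ⊗[R] A) (S ⊗[R] M) :=
  Module.compHom (S ⊗[R] M) (act R S A M).toRingHom

theorem tower : letI := mod R S A M; IsScalarTower S (S ⊗[R] A) (S ⊗[R] M) := by
  letI := mod R S A M
  refine ⟨fun s x m => ?_⟩
  change act R S A M (s • x) m = s • act R S A M x m
  rw [map_smul]
  rfl

theorem tmul_smul_tmul (s : S) (a : A) (t : S) (m : M) :
    letI := mod R S A M
    (s ⊗ₜ[R] a : S ⊗[R] A) • (t ⊗ₜ[R] m : S ⊗[R] M) = (s * t) ⊗ₜ (a • m) :=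
  act_tmul R S A M s a t m

end module

section lift

variable (R : Type u) [CommRing R] (S : Type w'') [CommRing S] [Algebra R S]
  (hS : Function.Surjective (algebraMap R S))
  (A : Type v) [Ring A] [Algebra R A]
  (M : Type w) [AddCommGroup M] [Module R M] [Module A M] [IsScalarTower R A M]
  (N : Type w') [AddCommGroup N] [Module R N] [Module A N] [IsScalarTower R A N]

include hS in
/-- Lifting `S ⊗ A`-linear maps to `A`-linear maps when `R → S` is surjective and `M` projective. -/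
theorem exists_lift [Module.Projective A M]
    (f : letI := mod R S A M; letI := mod R S A N; (S ⊗[R] M) →ₗ[S ⊗[R] A] (S ⊗[R] N)) :
    ∃ φ : M →ₗ[A] N, ∀ x, (1 : S) ⊗ₜ[R] φ x =
      (letI := mod R S A M; letI := mod R S A N; f ((1 : S) ⊗ₜ[R] x)) := by
  letI := mod R S A M
  letI := mod R S A N
  letI mA : Module A (S ⊗[R] N) := Module.compHom (S ⊗[R] N)
    (Algebra.TensorProduct.includeRight (R := R) (A := S) (B := A)).toRingHom
  have hsmul : ∀ (a : A) (z : S ⊗[R] N), a • z = ((1 : S) ⊗ₜ[R] a : S ⊗[R] A) • z :=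
    fun a z => rfl
  let g : M →ₗ[A] S ⊗[R] N :=
    { toFun := fun x => f ((1 : S) ⊗ₜ[R] x)
      map_add' := fun x y => by rw [TensorProduct.tmul_add, map_add]
      map_smul' := fun a x => by
        rw [RingHom.id_apply, hsmul, ← map_smul, tmul_smul_tmul, one_mul] }
  let q : N →ₗ[A] S ⊗[R] N :=
    { toFun := fun x => (1 : S) ⊗ₜ[R] x
      map_add' := fun x y => TensorProduct.tmul_add _ _ _
      map_smul' := fun a x => by
        rw [RingHom.id_apply, hsmul, tmul_smul_tmul, one_mul] }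
  have hq : Function.Surjective q := TensorProduct.mk_surjective R N S hS
  obtain ⟨φ, hφ⟩ := Module.projective_lifting_property q g hq
  exact ⟨φ, fun x => LinearMap.congr_fun hφ x⟩

end lift

section residue

variable {R : Type u} [CommRing R] (m : Ideal R) [hm : m.IsMaximal]
  {A : Type v} [Ring A] [Algebra R A] [IsAzumaya R A]
  {M : Type w} [AddCommGroup M] [Module R M] [Module A M] [IsScalarTower R A M]
  {N : Type w'} [AddCommGroup N] [Module R N] [Module A N] [IsScalarTower R A N]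
  [Module.Finite A M] [Module.Projective A M] [Module.Finite A N] [Module.Projective A N]

theorem finrank_quotient (M : Type w) [AddCommGroup M] [Module R M] [Module.Finite R M]
    [Module.Projective R M] :
    letI := Ideal.Quotient.field m
    Module.finrank (R ⧸ m) ((R ⧸ m) ⊗[R] M) =
      Module.rankAtStalk (R := R) M ⟨m, hm.isPrime⟩ := by
  letI := Ideal.Quotient.field m
  have h1 := Module.rankAtStalk_baseChange (R := R) (M := M) (S := R ⧸ m)
    (⟨⊥, Ideal.isPrime_bot⟩ : PrimeSpectrum (R ⧸ m))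
  rw [Module.rankAtStalk_eq_finrank_of_free] at h1
  have h2 : PrimeSpectrum.comap (algebraMap R (R ⧸ m))
      (⟨⊥, Ideal.isPrime_bot⟩ : PrimeSpectrum (R ⧸ m)) = ⟨m, hm.isPrime⟩ := by
    ext1
    change Ideal.comap (Ideal.Quotient.mk m) ⊥ = m
    rw [← RingHom.ker_eq_comap_bot, Ideal.mk_ker]
  rw [h2] at h1
  exact h1

theorem exists_pair_of_le
    (h : Module.rankAtStalk (R := R) N ⟨m, hm.isPrime⟩ ≤
      Module.rankAtStalk (R := R) M ⟨m, hm.isPrime⟩) :
    ∃ (φ : M →ₗ[A] N) (ψ : N →ₗ[A] M), ∀ x, φ (ψ x) - x ∈ m • (⊤ : Submodule R N) := by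
  letI := Ideal.Quotient.field m
  have : Module.Finite R M := AzMod.finite_tower R A M
  have : Module.Projective R M := AzMod.projective_tower R A M
  have : Module.Finite R N := AzMod.finite_tower R A N
  have : Module.Projective R N := AzMod.projective_tower R A N
  letI := mod R (R ⧸ m) A M
  letI := mod R (R ⧸ m) A N
  have := tower R (R ⧸ m) A M
  have := tower R (R ⧸ m) A N
  have hAz : IsAzumaya (R ⧸ m) ((R ⧸ m) ⊗[R] A) := AzOps.isAzumaya_baseChange (R ⧸ m)
  have hsimp : IsSimpleRing ((R ⧸ m) ⊗[R] A) := SimpleMods.isSimpleRing_of_isAzumaya (R ⧸ m) _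
  have hart : IsArtinianRing ((R ⧸ m) ⊗[R] A) := IsArtinianRing.of_finite (R ⧸ m) _
  rw [← finrank_quotient m M, ← finrank_quotient m N] at h
  obtain ⟨p, i, hpi⟩ := SimpleMods.exists_split_of_finrank_le (R ⧸ m) ((R ⧸ m) ⊗[R] A)
    ((R ⧸ m) ⊗[R] M) ((R ⧸ m) ⊗[R] N) h
  obtain ⟨φ, hφ⟩ := exists_lift R (R ⧸ m) Ideal.Quotient.mk_surjective A M N p
  obtain ⟨ψ, hψ⟩ := exists_lift R (R ⧸ m) Ideal.Quotient.mk_surjective A N M i
  refine ⟨φ, ψ, fun x => ?_⟩
  rw [← LinearMap.ker_tensorProductMk, LinearMap.mem_ker, map_sub, TensorProduct.mk_apply,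
    TensorProduct.mk_apply, hφ, hψ, hpi, sub_self]

theorem exists_pair_of_eq
    (h : Module.rankAtStalk (R := R) M ⟨m, hm.isPrime⟩ =
      Module.rankAtStalk (R := R) N ⟨m, hm.isPrime⟩) :
    ∃ (φ : M →ₗ[A] N) (ψ : N →ₗ[A] M), (∀ x, φ (ψ x) - x ∈ m • (⊤ : Submodule R N)) ∧
      (∀ x, ψ (φ x) - x ∈ m • (⊤ : Submodule R M)) := by
  letI := Ideal.Quotient.field m
  have : Module.Finite R M := AzMod.finite_tower R A M
  have : Module.Projective R M := AzMod.projective_tower R A M
  have : Module.Finite R N := AzMod.finite_tower R A N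
  have : Module.Projective R N := AzMod.projective_tower R A N
  letI := mod R (R ⧸ m) A M
  letI := mod R (R ⧸ m) A N
  have := tower R (R ⧸ m) A M
  have := tower R (R ⧸ m) A N
  have hAz : IsAzumaya (R ⧸ m) ((R ⧸ m) ⊗[R] A) := AzOps.isAzumaya_baseChange (R ⧸ m)
  have hsimp : IsSimpleRing ((R ⧸ m) ⊗[R] A) := SimpleMods.isSimpleRing_of_isAzumaya (R ⧸ m) _
  have hart : IsArtinianRing ((R ⧸ m) ⊗[R] A) := IsArtinianRing.of_finite (R ⧸ m) _
  rw [← finrank_quotient m M, ← finrank_quotient m N] at h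
  obtain ⟨e⟩ := Groth.Agent.CurvesA.SkolemNoether.nonempty_linearEquiv_of_finrank_eq (R ⧸ m)
    ((R ⧸ m) ⊗[R] A) ((R ⧸ m) ⊗[R] M) ((R ⧸ m) ⊗[R] N) h
  obtain ⟨φ, hφ⟩ := exists_lift R (R ⧸ m) Ideal.Quotient.mk_surjective A M N e.toLinearMap
  obtain ⟨ψ, hψ⟩ := exists_lift R (R ⧸ m) Ideal.Quotient.mk_surjective A N M e.symm.toLinearMap
  simp only [LinearEquiv.coe_coe] at hφ hψ
  refine ⟨φ, ψ, fun x => ?_, fun x => ?_⟩
  · rw [← LinearMap.ker_tensorProductMk, LinearMap.mem_ker, map_sub, TensorProduct.mk_apply,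
      TensorProduct.mk_apply, hφ, hψ, LinearEquiv.apply_symm_apply, sub_self]
  · rw [← LinearMap.ker_tensorProductMk, LinearMap.mem_ker, map_sub, TensorProduct.mk_apply,
      TensorProduct.mk_apply, hψ, hφ, LinearEquiv.symm_apply_apply, sub_self]

end residue

end K444.BCMod
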