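import Groth.Prelude.Def_W4c4lgringredgrpLG
import Mathlib.LinearAlgebra.Matrix.Determinant.Basic
import Mathlib.LinearAlgebra.Matrix.NonsingularInverse
import Mathlib.LinearAlgebra.Matrix.ToLin
import Mathlib.RingTheory.Finiteness.Cardinality
import Mathlib.Algebra.Module.Projective
import Mathlib.RingTheory.Ideal.Maps
import Mathlib.LinearAlgebra.Dimension.Finite

/-!
# LG-rings: modules isomorphic at all maximal ideals are isomorphic
-/

set_option autoImplicit false
universe u v w w'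

namespace K444.LG

section poly

variable (R : Type u) [CommRing R] (σ : Type)

/-- Polynomial functions. -/
noncomputable def PolyFn : Subalgebra R ((σ → R) → R) :=
  (AlgHom.pi (R := R) (fun s : σ → R => MvPolynomial.aeval (R := R) s)).range

variable {R σ}

theorem coord_mem (i : σ) : (fun s : σ → R => s i) ∈ PolyFn R σ :=
  ⟨MvPolynomial.X i, by ext s; simp⟩

theorem const_mem (r : R) : (fun _ : σ → R => r) ∈ PolyFn R σ :=
  ⟨MvPolynomial.C r, by ext s; simp⟩

theorem add_mem {F G : (σ → R) → R} (hF : F ∈ PolyFn R σ) (hG : G ∈ PolyFn R σ) :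
    (fun s => F s + G s) ∈ PolyFn R σ := Subalgebra.add_mem _ hF hG

theorem mul_mem {F G : (σ → R) → R} (hF : F ∈ PolyFn R σ) (hG : G ∈ PolyFn R σ) :
    (fun s => F s * G s) ∈ PolyFn R σ := Subalgebra.mul_mem _ hF hG

theorem sum_mem {ι : Type*} (t : Finset ι) (F : ι → (σ → R) → R) (hF : ∀ i ∈ t, F i ∈ PolyFn R σ) :
    (fun s => ∑ i ∈ t, F i s) ∈ PolyFn R σ := by
  have : (fun s => ∑ i ∈ t, F i s) = ∑ i ∈ t, F i := by ext s; simp
  rw [this]
  exact Subalgebra.sum_mem _ hF

theorem prod_mem {ι : Type*} (t : Finset ι) (F : ι → (σ → R) → R) (hF : ∀ i ∈ t, F i ∈ PolyFn R σ) :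
    (fun s => ∏ i ∈ t, F i s) ∈ PolyFn R σ := by
  have : (fun s => ∏ i ∈ t, F i s) = ∏ i ∈ t, F i := by ext s; simp
  rw [this]
  exact Subalgebra.prod_mem _ hF

theorem det_mem {ι : Type*} [Fintype ι] [DecidableEq ι] (W : (σ → R) → Matrix ι ι R)
    (h : ∀ i j, (fun s => W s i j) ∈ PolyFn R σ) : (fun s => (W s).det) ∈ PolyFn R σ := by
  have : (fun s => (W s).det) = fun s => ∑ τ : Equiv.Perm ι,
      ((Equiv.Perm.sign τ : ℤ) : R) * ∏ i, W s (τ i) i := by
    ext s; rw [Matrix.det_apply']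
  rw [this]
  exact sum_mem _ _ (fun τ _ => mul_mem (const_mem _) (prod_mem _ _ (fun i _ => h _ _)))

theorem exists_unit (hR : LGRing.IsLGRing R) [Finite σ] (F : (σ → R) → R)
    (hF : F ∈ PolyFn R σ) (h : ∀ (m : Ideal R) [m.IsMaximal], ∃ c, F c ∉ m) :
    ∃ c, IsUnit (F c) := by
  obtain ⟨f, hf⟩ := hF
  have hf' : ∀ s, MvPolynomial.aeval s f = F s := fun s => by rw [← hf]; rfl
  obtain ⟨n, ⟨e⟩⟩ := Finite.exists_equiv_fin σ
  obtain ⟨c, hc⟩ := hR n (MvPolynomial.rename e f) (fun m hm => by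
    obtain ⟨c, hc⟩ := h m
    refine ⟨fun i => Ideal.Quotient.mk m (c (e.symm i)), ?_⟩
    rw [MvPolynomial.aeval_rename]
    have h1 : (MvPolynomial.aeval ((fun i => Ideal.Quotient.mk m (c (e.symm i))) ∘ e)) f =
        Ideal.Quotient.mk m (F c) := by
      rw [← hf', ← Ideal.Quotient.algebraMap_eq, MvPolynomial.aeval_def, MvPolynomial.aeval_def,
        MvPolynomial.hom_eval₂]
      congr 1
      ext i
      simp
    rw [h1]
    let _ := Ideal.Quotient.field m
    rw [isUnit_iff_ne_zero]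
    rwa [Ne, Ideal.Quotient.eq_zero_iff_mem])
  refine ⟨c ∘ e, ?_⟩
  rw [← hf']
  rwa [MvPolynomial.aeval_rename] at hc

end poly

section dualbasis

variable (A : Type v) [Ring A] (M : Type w) [AddCommGroup M] [Module A M]

theorem exists_dualBasis [Module.Finite A M] [Module.Projective A M] :
    ∃ (n : ℕ) (x : Fin n → M) (f : Fin n → M →ₗ[A] A), ∀ a, ∑ i, f i a • x i = a := by
  obtain ⟨n, g, hg⟩ := Module.Finite.exists_fin' A M
  obtain ⟨h, hh⟩ := Module.projective_lifting_property g LinearMap.id hg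
  refine ⟨n, fun i => g (Pi.single i 1), fun i => LinearMap.proj i ∘ₗ h, fun a => ?_⟩
  have h1 := LinearMap.congr_fun hh a
  simp only [LinearMap.comp_apply, LinearMap.id_apply] at h1
  conv_rhs => rw [← h1]
  simp only [LinearMap.comp_apply, LinearMap.proj_apply]
  simp_rw [← map_smul]
  rw [← map_sum]
  congr 1
  ext j
  simp [Finset.sum_apply, Pi.single_apply]

end dualbasis

section hom

variable (R : Type u) [CommRing R] (A : Type v) [Ring A] [Algebra R A]
  (M : Type w) [AddCommGroup M] [Module R M] [Module A M] [IsScalarTower R A M]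
  (N : Type w') [AddCommGroup N] [Module R N] [Module A N] [IsScalarTower R A N]

omit [Module R M] [IsScalarTower R A M] in
theorem finite_hom [Module.Finite A M] [Module.Projective A M] [Module.Finite R N] :
    Module.Finite R (M →ₗ[A] N) := by
  obtain ⟨n, x, f, hx⟩ := exists_dualBasis A M
  let L : (Fin n → N) →ₗ[R] (M →ₗ[A] N) :=
    { toFun := fun ν => ∑ i, (f i).smulRight (ν i)
      map_add' := fun a b => by
        ext m; simp [Finset.sum_add_distrib]
      map_smul' := fun r a => by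
        ext m
        simp only [LinearMap.sum_apply, LinearMap.smulRight_apply, Pi.smul_apply,
          RingHom.id_apply, LinearMap.smul_apply, Finset.smul_sum]
        exact Finset.sum_congr rfl (fun i _ => smul_comm _ _ _) }
  refine Module.Finite.of_surjective L (fun h => ⟨fun i => h (x i), ?_⟩)
  ext m
  conv_rhs => rw [← hx m]
  simp [L]

end hom

section endo

variable {R : Type u} [CommRing R] {N : Type w} [AddCommGroup N] [Module R N]
  {n : ℕ} (y : Fin n → N) (g : Fin n → N →ₗ[R] R)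

/-- The matrix of `θ ⊕ id` on `R^n = N ⊕ N'`. -/
def bigMatrix (θ : N →ₗ[R] N) : Matrix (Fin n) (Fin n) R :=
  Matrix.of (fun j k => g j (θ (y k))) + (1 - Matrix.of (fun j k => g j (y k)))

theorem bijective_of_isUnit_det (hy : ∀ a, ∑ i, g i a • y i = a) (θ : N →ₗ[R] N)
    (h : IsUnit (bigMatrix y g θ).det) : Function.Bijective θ := by
  let i : N →ₗ[R] (Fin n → R) := LinearMap.pi g
  let s : (Fin n → R) →ₗ[R] N := Fintype.linearCombination R y
  have hsi : ∀ a, s (i a) = a := fun a => by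
    simp [s, i, Fintype.linearCombination_apply, hy]
  let W : (Fin n → R) →ₗ[R] (Fin n → R) := Matrix.mulVecLin (bigMatrix y g θ)
  have hW : ∀ v, W v = i (θ (s v)) + (v - i (s v)) := by
    intro v
    ext j
    have h1 : ∀ (f : N →ₗ[R] R), f (s v) = ∑ k, v k * f (y k) := by
      intro f
      simp [s, Fintype.linearCombination_apply]
    have h2 : g j (θ (s v)) = ∑ k, v k * g j (θ (y k)) := h1 (g j ∘ₗ θ)
    simp only [W, bigMatrix, Matrix.mulVecLin_apply, Matrix.add_mulVec, Matrix.sub_mulVec,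
      Matrix.one_mulVec, Pi.add_apply, Pi.sub_apply, i, LinearMap.pi_apply, h1 (g j), h2]
    congr 1
    · simp only [Matrix.mulVec, dotProduct, Matrix.of_apply]
      exact Finset.sum_congr rfl (fun k _ => mul_comm _ _)
    · congr 1
      simp only [Matrix.mulVec, dotProduct, Matrix.of_apply]
      exact Finset.sum_congr rfl (fun k _ => mul_comm _ _)
  have hbij : Function.Bijective W := by
    have hu : IsUnit (bigMatrix y g θ) := (Matrix.isUnit_iff_isUnit_det _).2 h
    constructor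
    · exact Matrix.mulVec_injective_of_isUnit hu
    · exact Matrix.mulVec_surjective_iff_isUnit.2 hu
  have h3 : ∀ a, W (i a) = i (θ a) := fun a => by rw [hW, hsi, sub_self, add_zero]
  have h4 : ∀ v, s (W v) = θ (s v) := fun v => by
    rw [hW, map_add, map_sub, hsi, hsi, sub_self, add_zero]
  constructor
  · intro a b hab
    have : W (i a) = W (i b) := by rw [h3, h3, hab]
    have := hbij.1 this
    rw [← hsi a, ← hsi b, this]
  · intro b
    obtain ⟨v, hv⟩ := hbij.2 (i b)
    refine ⟨s v, ?_⟩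
    rw [← h4, hv, hsi]

theorem det_notMem_of_congr (m : Ideal R) [m.IsPrime] (θ : N →ₗ[R] N)
    (h : ∀ x, θ x - x ∈ m • (⊤ : Submodule R N)) : (bigMatrix y g θ).det ∉ m := by
  have hm : ∀ (f : N →ₗ[R] R) x, x ∈ m • (⊤ : Submodule R N) → f x ∈ m := by
    intro f x hx
    have h1 : f x ∈ Submodule.map f (m • (⊤ : Submodule R N)) := ⟨x, hx, rfl⟩
    rw [Submodule.map_smul''] at h1
    have h2 : m • Submodule.map f ⊤ ≤ m := by
      rw [Submodule.smul_le]
      intro r hr z _
      exact Ideal.mul_mem_right _ _ hr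
    exact h2 h1
  rw [← Ideal.Quotient.eq_zero_iff_mem, RingHom.map_det]
  have h1 : (Ideal.Quotient.mk m).mapMatrix (bigMatrix y g θ) = 1 := by
    ext j k
    have h2 : Ideal.Quotient.mk m (g j (θ (y k))) = Ideal.Quotient.mk m (g j (y k)) := by
      rw [Ideal.Quotient.eq, ← map_sub]
      exact hm _ _ (h _)
    simp only [RingHom.mapMatrix_apply, Matrix.map_apply, bigMatrix, Matrix.add_apply,
      Matrix.sub_apply, Matrix.of_apply, map_add, map_sub, h2]
    rw [add_sub_cancel]
    by_cases hjk : j = k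
    · subst hjk; simp
    · simp [Matrix.one_apply_ne hjk]
  rw [h1, Matrix.det_one]
  exact one_ne_zero

end endo

section main

variable {R : Type u} [CommRing R] (hR : LGRing.IsLGRing R) {A : Type v} [Ring A] [Algebra R A]
  {M : Type w} [AddCommGroup M] [Module R M] [Module A M] [IsScalarTower R A M]
  {N : Type w'} [AddCommGroup N] [Module R N] [Module A N] [IsScalarTower R A N]

theorem entry_mem {a b : ℕ} (h : Fin a → M →ₗ[A] N) (h' : Fin b → N →ₗ[A] M) (g : N →ₗ[R] R)
    (y : N) : (fun s : Fin a ⊕ Fin b → R =>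
      g ((∑ i, s (Sum.inl i) • h i) ((∑ j, s (Sum.inr j) • h' j) y))) ∈
      PolyFn R (Fin a ⊕ Fin b) := by
  have : (fun s : Fin a ⊕ Fin b → R =>
      g ((∑ i, s (Sum.inl i) • h i) ((∑ j, s (Sum.inr j) • h' j) y))) =
      fun s => ∑ i, ∑ j, (s (Sum.inl i) * s (Sum.inr j)) * g (h i (h' j y)) := by
    ext s
    simp only [LinearMap.sum_apply, LinearMap.smul_apply, map_sum, map_smul]
    rw [Finset.sum_comm]
    refine Finset.sum_congr rfl (fun i _ => ?_)
    refine Finset.sum_congr rfl (fun j _ => ?_)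
    have h1 : h i (s (Sum.inr j) • h' j y) = s (Sum.inr j) • h i (h' j y) :=
      LinearMap.map_smul_of_tower (h i) (s (Sum.inr j)) (h' j y)
    rw [h1, map_smul, smul_eq_mul, smul_eq_mul, mul_assoc]
  rw [this]
  exact sum_mem _ _ (fun i _ => sum_mem _ _ (fun j _ => mul_mem (mul_mem (coord_mem _)
    (coord_mem _)) (const_mem _)))

variable (R A M) in
omit [Module R M] [IsScalarTower R A M] in
theorem exists_gens [Module.Finite A M] [Module.Projective A M] [Module.Finite R N] : ∃ (a : ℕ) (h : Fin a → M →ₗ[A] N),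
    ∀ φ : M →ₗ[A] N, ∃ c : Fin a → R, φ = ∑ i, c i • h i := by
  have := finite_hom R A M N
  obtain ⟨a, p, hp⟩ := Module.Finite.exists_fin' R (M →ₗ[A] N)
  refine ⟨a, fun i => p (Pi.single i 1), fun φ => ?_⟩
  obtain ⟨c, rfl⟩ := hp φ
  refine ⟨c, ?_⟩
  simp_rw [← map_smul]
  rw [← map_sum]
  congr 1
  ext j
  simp [Finset.sum_apply, Pi.single_apply]

include hR in
/-- LG-ring: if mod every maximal ideal there is a split surjection, then there is one. -/
theorem exists_split [Module.Finite A M] [Module.Projective A M] [Module.Finite A N]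
    [Module.Projective A N] [Module.Finite R M] [Module.Finite R N] [Module.Projective R N]
    (h : ∀ (m : Ideal R) [m.IsMaximal], ∃ (φ : M →ₗ[A] N) (ψ : N →ₗ[A] M),
      ∀ x, φ (ψ x) - x ∈ m • (⊤ : Submodule R N)) :
    ∃ (φ : M →ₗ[A] N) (ψ : N →ₗ[A] M), Function.Bijective (φ ∘ₗ ψ) := by
  obtain ⟨a, h1, hh1⟩ := exists_gens R A M (N := N)
  obtain ⟨b, h2, hh2⟩ := exists_gens R A N (N := M)
  obtain ⟨q, y, g, hy⟩ := exists_dualBasis R N
  let θ : (Fin a ⊕ Fin b → R) → (N →ₗ[R] N) := fun s =>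
    ((∑ i, s (Sum.inl i) • h1 i).restrictScalars R) ∘ₗ
      ((∑ j, s (Sum.inr j) • h2 j).restrictScalars R)
  obtain ⟨c, hc⟩ := exists_unit hR (fun s => (bigMatrix y g (θ s)).det)
    (det_mem _ (fun i j => add_mem (entry_mem h1 h2 (g i) (y j)) (const_mem _)))
    (fun m hm => by
      obtain ⟨φ, ψ, hφψ⟩ := h m
      obtain ⟨c, hc⟩ := hh1 φ
      obtain ⟨c', hc'⟩ := hh2 ψ
      refine ⟨Sum.elim c c', det_notMem_of_congr y g m _ (fun x => ?_)⟩
      have : θ (Sum.elim c c') x = φ (ψ x) := by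
        simp only [θ, Sum.elim_inl, Sum.elim_inr, ← hc, ← hc']
        rfl
      rw [this]
      exact hφψ x)
  exact ⟨∑ i, c (Sum.inl i) • h1 i, ∑ j, c (Sum.inr j) • h2 j,
    bijective_of_isUnit_det y g hy (θ c) hc⟩

include hR in
/-- LG-ring: modules isomorphic mod every maximal ideal are isomorphic. -/
theorem exists_iso [Module.Finite A M] [Module.Projective A M] [Module.Finite A N]
    [Module.Projective A N] [Module.Finite R M] [Module.Projective R M] [Module.Finite R N]
    [Module.Projective R N]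
    (h : ∀ (m : Ideal R) [m.IsMaximal], ∃ (φ : M →ₗ[A] N) (ψ : N →ₗ[A] M),
      (∀ x, φ (ψ x) - x ∈ m • (⊤ : Submodule R N)) ∧
      (∀ x, ψ (φ x) - x ∈ m • (⊤ : Submodule R M))) :
    Nonempty (M ≃ₗ[A] N) := by
  obtain ⟨a, h1, hh1⟩ := exists_gens R A M (N := N)
  obtain ⟨b, h2, hh2⟩ := exists_gens R A N (N := M)
  obtain ⟨q, y, g, hy⟩ := exists_dualBasis R N
  obtain ⟨q', y', g', hy'⟩ := exists_dualBasis R M
  let φ : (Fin a ⊕ Fin b → R) → (M →ₗ[A] N) := fun s => ∑ i, s (Sum.inl i) • h1 i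
  let ψ : (Fin a ⊕ Fin b → R) → (N →ₗ[A] M) := fun s => ∑ i, s (Sum.inr i) • h2 i
  let θ : (Fin a ⊕ Fin b → R) → (N →ₗ[R] N) := fun s =>
    ((φ s).restrictScalars R) ∘ₗ ((ψ s).restrictScalars R)
  let θ' : (Fin a ⊕ Fin b → R) → (M →ₗ[R] M) := fun s =>
    ((ψ s).restrictScalars R) ∘ₗ ((φ s).restrictScalars R)
  -- the swapped version of `entry_mem`
  have hentry : ∀ (g : M →ₗ[R] R) (y : M), (fun s : Fin a ⊕ Fin b → R =>
      g ((∑ i, s (Sum.inr i) • h2 i) ((∑ j, s (Sum.inl j) • h1 j) y))) ∈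
      PolyFn R (Fin a ⊕ Fin b) := by
    intro g y
    have : (fun s : Fin a ⊕ Fin b → R =>
        g ((∑ i, s (Sum.inr i) • h2 i) ((∑ j, s (Sum.inl j) • h1 j) y))) =
        fun s => ∑ i, ∑ j, (s (Sum.inr i) * s (Sum.inl j)) * g (h2 i (h1 j y)) := by
      ext s
      simp only [LinearMap.sum_apply, LinearMap.smul_apply, map_sum, map_smul]
      rw [Finset.sum_comm]
      refine Finset.sum_congr rfl (fun i _ => ?_)
      refine Finset.sum_congr rfl (fun j _ => ?_)
      have h3 : h2 i (s (Sum.inl j) • h1 j y) = s (Sum.inl j) • h2 i (h1 j y) :=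
        LinearMap.map_smul_of_tower (h2 i) (s (Sum.inl j)) (h1 j y)
      rw [h3, map_smul, smul_eq_mul, smul_eq_mul, mul_assoc]
    rw [this]
    exact sum_mem _ _ (fun i _ => sum_mem _ _ (fun j _ => mul_mem (mul_mem (coord_mem _)
      (coord_mem _)) (const_mem _)))
  obtain ⟨c, hc⟩ := exists_unit hR
    (fun s => (bigMatrix y g (θ s)).det * (bigMatrix y' g' (θ' s)).det)
    (mul_mem (det_mem _ (fun i j => add_mem (entry_mem h1 h2 (g i) (y j)) (const_mem _)))
      (det_mem _ (fun i j => add_mem (hentry (g' i) (y' j)) (const_mem _))))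
    (fun m hm => by
      obtain ⟨φ₀, ψ₀, hφψ, hψφ⟩ := h m
      obtain ⟨c, hc⟩ := hh1 φ₀
      obtain ⟨c', hc'⟩ := hh2 ψ₀
      have e1 : φ (Sum.elim c c') = φ₀ := by
        simp only [φ, Sum.elim_inl, ← hc]
      have e2 : ψ (Sum.elim c c') = ψ₀ := by
        simp only [ψ, Sum.elim_inr, ← hc']
      refine ⟨Sum.elim c c', fun hmem => ?_⟩
      rcases (hm.isPrime.mem_or_mem hmem) with hmem | hmem
      · refine det_notMem_of_congr y g m _ (fun x => ?_) hmem
        have : θ (Sum.elim c c') x = φ₀ (ψ₀ x) := by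
          simp only [θ, e1, e2]
          rfl
        rw [this]
        exact hφψ x
      · refine det_notMem_of_congr y' g' m _ (fun x => ?_) hmem
        have : θ' (Sum.elim c c') x = ψ₀ (φ₀ x) := by
          simp only [θ', e1, e2]
          rfl
        rw [this]
        exact hψφ x)
  have hb1 := bijective_of_isUnit_det y g hy (θ c) (isUnit_of_mul_isUnit_left hc)
  have hb2 := bijective_of_isUnit_det y' g' hy' (θ' c) (isUnit_of_mul_isUnit_right hc)
  refine ⟨LinearEquiv.ofBijective (φ c) ⟨?_, ?_⟩⟩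
  · exact Function.Injective.of_comp (f := ψ c) hb2.1
  · exact Function.Surjective.of_comp (g := ψ c) hb1.2

end main

end K444.LG
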