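import Groth.Agent.Brauer.K444.BCMod
import Groth.Agent.Brauer.K444.LG
import Mathlib.Algebra.Module.FinitePresentation
import Mathlib.RingTheory.LocalRing.Module
import Mathlib.RingTheory.Flat.Localization
import Mathlib.LinearAlgebra.FreeModule.Finite.Matrix
import Mathlib.LinearAlgebra.Dimension.Constructions
import Mathlib.Algebra.Algebra.Subalgebra.Centralizer

/-!
# The centralizer of `B ⊗ End Q` acting on `B ⊗ Q`, and ranks of endomorphism algebras
-/

set_option autoImplicit false
universe u v w w' w''
open scoped TensorProduct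
open MulOpposite

namespace K444.CentEnd

open K444.AzData

section rank

variable {R : Type u} [CommRing R] (P : Type v) [AddCommGroup P] [Module R P] [Module.Finite R P]
  [Module.Projective R P]

theorem projective_hom (Q : Type w) [AddCommGroup Q] [Module R Q] [Module.Projective R Q] :
    Module.Projective R (P →ₗ[R] Q) := by
  classical
  obtain ⟨n, x, f, hx⟩ := AzData.exists_dualBasis (R := R) (P := P)
  let i : (P →ₗ[R] Q) →ₗ[R] (Fin n → Q) := LinearMap.pi (fun j => LinearMap.applyₗ (x j))
  let s : (Fin n → Q) →ₗ[R] (P →ₗ[R] Q) :=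
    { toFun := fun ν => ∑ j, (f j).smulRight (ν j)
      map_add' := fun a b => by
        ext m; simp [Finset.sum_add_distrib]
      map_smul' := fun r a => by
        ext m
        simp only [LinearMap.sum_apply, LinearMap.smulRight_apply, Pi.smul_apply,
          RingHom.id_apply, LinearMap.smul_apply, Finset.smul_sum]
        exact Finset.sum_congr rfl (fun i _ => smul_comm _ _ _) }
  have : Module.Projective R (Fin n → Q) := by
    have : Module.Projective R (Fin n →₀ Q) :=
      Module.Projective.of_equiv (finsuppLequivDFinsupp R (ι := Fin n) (M := Q)).symm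
    exact Module.Projective.of_equiv (Finsupp.linearEquivFunOnFinite R Q (Fin n))
  refine Module.Projective.of_split i s ?_
  ext h p
  conv_rhs => rw [LinearMap.id_apply, ← hx p]
  simp [s, i]

/-- The rank of `Hom(P,Q)`. -/
theorem rank_hom_aux (Q : Type w) [AddCommGroup Q] [Module R Q] [Module.Finite R Q]
    [Module.Projective R Q] (S : Type w') [CommRing S] [IsLocalRing S] [Algebra R S]
    [Module.Flat R S] (q : PrimeSpectrum S) :
    Module.rankAtStalk (R := R) (P →ₗ[R] Q) (q.comap (algebraMap R S)) =
      Module.rankAtStalk (R := R) P (q.comap (algebraMap R S)) *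
        Module.rankAtStalk (R := R) Q (q.comap (algebraMap R S)) := by
  have : Module.FinitePresentation R P := Module.finitePresentation_of_projective R P
  have h1 := Module.FinitePresentation.isBaseChange_map R P Q S
  have : Module.Projective R (P →ₗ[R] Q) := projective_hom P Q
  have : Module.Finite R (P →ₗ[R] Q) := LG.finite_hom R R P Q
  have e := h1.equiv
  have h2 := Module.rankAtStalk_baseChange (R := R) (M := (P →ₗ[R] Q)) q
  have h3 := Module.rankAtStalk_baseChange (R := R) (M := P) q
  have h4 := Module.rankAtStalk_baseChange (R := R) (M := Q) q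
  have : Module.Free S (S ⊗[R] P) := Module.free_of_flat_of_isLocalRing
  have : Module.Free S (S ⊗[R] Q) := Module.free_of_flat_of_isLocalRing
  rw [Module.rankAtStalk_eq_finrank_of_free] at h3 h4
  have h5 : Module.rankAtStalk (R := S) (S ⊗[R] (P →ₗ[R] Q)) =
      Module.rankAtStalk (R := S) ((S ⊗[R] P) →ₗ[S] (S ⊗[R] Q)) :=
    Module.rankAtStalk_eq_of_equiv (N := ((S ⊗[R] P) →ₗ[S] (S ⊗[R] Q))) e
  rw [h5, Module.rankAtStalk_eq_finrank_of_free] at h2
  simp only [Pi.natCast_apply, Nat.cast_id] at h2 h3 h4
  rw [← h2, ← h3, ← h4, Module.finrank_linearMap]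

theorem rank_hom (Q : Type w) [AddCommGroup Q] [Module R Q] [Module.Finite R Q]
    [Module.Projective R Q] (p : PrimeSpectrum R) :
    Module.rankAtStalk (R := R) (P →ₗ[R] Q) p =
      Module.rankAtStalk (R := R) P p * Module.rankAtStalk (R := R) Q p := by
  have : Module.Flat R (Localization.AtPrime p.asIdeal) := IsLocalization.flat _ p.asIdeal.primeCompl
  have h := rank_hom_aux (R := R) P Q (Localization.AtPrime p.asIdeal)
    ⟨IsLocalRing.maximalIdeal (Localization.AtPrime p.asIdeal), inferInstance⟩
  have hq : PrimeSpectrum.comap (algebraMap R (Localization.AtPrime p.asIdeal))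
      (⟨IsLocalRing.maximalIdeal (Localization.AtPrime p.asIdeal), inferInstance⟩ :
      PrimeSpectrum (Localization.AtPrime p.asIdeal)) = p :=
    PrimeSpectrum.ext (Localization.AtPrime.under_maximalIdeal (I := p.asIdeal))
  rwa [hq] at h

theorem rank_pos_of_faithful [FaithfulSMul R P] (p : PrimeSpectrum R) :
    0 < Module.rankAtStalk (R := R) P p := by
  rw [Module.rankAtStalk_pos_iff_mem_support, Module.support_eq_zeroLocus,
    Module.annihilator_eq_bot.2 inferInstance]
  simp

end rank

section cent

variable {R : Type u} [CommRing R] {B : Type v} [Ring B] [Algebra R B]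
  {Q : Type w} [AddCommGroup Q] [Module R Q]

variable (R B Q) in
/-- The action of `B ⊗ End Q` on `B ⊗ Q`. -/
noncomputable def act : B ⊗[R] Module.End R Q →ₐ[R] Module.End R (B ⊗[R] Q) :=
  Algebra.TensorProduct.lift
    ((Module.End.rTensorAlgHom R B Q).comp (Algebra.lmul R B))
    (Module.End.lTensorAlgHom R Q B) (fun a g => by
      apply TensorProduct.ext'
      intro b q
      rfl)

theorem act_tmul (b : B) (f : Module.End R Q) (b' : B) (q : Q) :
    act R B Q (b ⊗ₜ f) (b' ⊗ₜ q) = (b * b') ⊗ₜ f q := by
  rfl

variable (R B Q) in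
/-- Right multiplication on `B ⊗ Q`. -/
noncomputable def rho : Bᵐᵒᵖ →ₐ[R] Module.End R (B ⊗[R] Q) :=
  (Module.End.rTensorAlgHom R B Q).comp (Algebra.lsmul R R B)

theorem rho_apply (a : B) (b : B) (q : Q) :
    rho R B Q (op a) (b ⊗ₜ q) = (b * a) ⊗ₜ q := by
  rfl

theorem rho_injective {n : ℕ} (y : Fin n → Q) (g : Fin n → Q →ₗ[R] R)
    (h : ∑ i, g i (y i) = 1) : Function.Injective (rho R B Q) := by
  intro a b hab
  have key : ∀ a : Bᵐᵒᵖ, a.unop = ∑ i, (TensorProduct.rid R B) ((g i).lTensor B
      (rho R B Q a (1 ⊗ₜ y i))) := by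
    intro a
    induction a using MulOpposite.rec' with
    | _ a =>
    simp only [rho_apply, LinearMap.lTensor_tmul, TensorProduct.rid_tmul, one_mul, unop_op]
    rw [← Finset.sum_smul, h, one_smul]
  apply unop_injective
  rw [key a, key b, hab]

theorem rho_comm (a : Bᵐᵒᵖ) (x : B ⊗[R] Module.End R Q) :
    rho R B Q a * act R B Q x = act R B Q x * rho R B Q a := by
  induction a using MulOpposite.rec' with
  | _ a =>
  induction x using TensorProduct.induction_on with
  | zero => simp
  | tmul b f =>
    ext b' q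
    simp [act_tmul, rho_apply, mul_assoc]
  | add x y hx hy => rw [map_add, mul_add, add_mul, hx, hy]

/-- The centralizer of the action of `B ⊗ End Q` on `B ⊗ Q` is `Bᵒᵖ`. -/
theorem mem_range_rho {n : ℕ} (y : Fin n → Q) (g : Fin n → Q →ₗ[R] R)
    (h : ∑ i, g i (y i) = 1) (T : Module.End R (B ⊗[R] Q))
    (hT : ∀ x, act R B Q x * T = T * act R B Q x) : ∃ a, rho R B Q a = T := by
  refine ⟨op (∑ i, (TensorProduct.rid R B) ((g i).lTensor B (T (1 ⊗ₜ y i)))), ?_⟩
  ext b q
  simp only [TensorProduct.AlgebraTensorModule.curry_apply, TensorProduct.curry_apply,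
    LinearMap.restrictScalars_self]
  rw [rho_apply, Finset.mul_sum, TensorProduct.sum_tmul]
  have h1 : b ⊗ₜ[R] q = ∑ i, act R B Q (b ⊗ₜ (g i).smulRight q) (1 ⊗ₜ y i) := by
    simp only [act_tmul, mul_one, LinearMap.smulRight_apply]
    rw [← TensorProduct.tmul_sum, ← Finset.sum_smul, h, one_smul]
  rw [h1, map_sum]
  refine Finset.sum_congr rfl (fun i _ => ?_)
  have h2 : T (act R B Q (b ⊗ₜ (g i).smulRight q) (1 ⊗ₜ y i)) =
      act R B Q (b ⊗ₜ (g i).smulRight q) (T (1 ⊗ₜ y i)) := by
    exact (LinearMap.congr_fun (hT _) _).symm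
  rw [h2]
  generalize T (1 ⊗ₜ y i) = z
  induction z using TensorProduct.induction_on with
  | zero => simp
  | tmul b' q' =>
    rw [act_tmul]
    simp [TensorProduct.smul_tmul]
  | add x y hx hy => rw [map_add, map_add, map_add, mul_add, TensorProduct.add_tmul, hx, hy]

theorem range_rho_eq {n : ℕ} (y : Fin n → Q) (g : Fin n → Q →ₗ[R] R)
    (h : ∑ i, g i (y i) = 1) :
    (rho R B Q).range = Subalgebra.centralizer R ((act R B Q).range : Set (Module.End R (B ⊗[R] Q))) := by
  ext T
  rw [Subalgebra.mem_centralizer_iff]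
  constructor
  · rintro ⟨a, rfl⟩ _ ⟨x, rfl⟩
    exact (rho_comm a x).symm
  · intro hT
    exact mem_range_rho y g h T (fun x => hT _ ⟨x, rfl⟩)

end cent

section proj

variable {R : Type u} [CommRing R] {A : Type v} [Ring A] [Algebra R A]
  (M : Type w) [AddCommGroup M] [Module R M] [Module A M] [IsScalarTower R A M]

/-- Modules over Azumaya algebras which are projective over the base are projective. -/
theorem projective_of_base [IsAzumaya R A] [Module.Projective R M] : Module.Projective A M := by
  obtain ⟨f, hf⟩ := exists_linear_one (R := R) (A := A)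
  obtain ⟨t, ht⟩ := IsAzumaya.bij (R := R) (A := A).2 ((Algebra.linearMap R A) ∘ₗ f)
  obtain ⟨m, c, d, hcd⟩ := (mem_range_mulLeftRight_iff _).1 ⟨t, ht⟩
  simp only [LinearMap.comp_apply, Algebra.linearMap_apply] at hcd
  have inj : Function.Injective ((AlgHom.mulLeftRight R A).toLinearMap ∘ₗ
      (TensorProduct.congr (LinearEquiv.refl R A) (opLinearEquiv R (M := A))).toLinearMap) :=
    (IsAzumaya.bij (R := R) (A := A)).1.comp (LinearEquiv.injective _)
  have hcomm : ∀ a, ∑ l, (a * c l) ⊗ₜ[R] d l = ∑ l, c l ⊗ₜ[R] (d l * a) := by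
    intro a
    apply inj
    ext b
    simp only [map_sum, LinearMap.comp_apply, LinearEquiv.coe_coe, TensorProduct.congr_tmul,
      LinearEquiv.refl_apply, AlgHom.toLinearMap_apply, coe_opLinearEquiv,
      AlgHom.mulLeftRight_apply, LinearMap.sum_apply, unop_op]
    simp_rw [mul_assoc]
    rw [← Finset.mul_sum]
    simp_rw [← mul_assoc]
    rw [← Finset.sum_mul, hcd, Algebra.commutes]
  have hone : ∑ l, c l * d l = 1 := by
    have := hcd 1
    simpa [hf] using this
  -- the section `M → A ⊗ M`
  have hproj : Module.Projective A (A ⊗[R] M) := inferInstance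
  let s : M →ₗ[A] A ⊗[R] M :=
    { toFun := fun x => ∑ l, c l ⊗ₜ[R] (d l • x)
      map_add' := fun x y => by simp [TensorProduct.tmul_add, Finset.sum_add_distrib]
      map_smul' := fun a x => by
        let L : A ⊗[R] A →ₗ[R] A ⊗[R] M := LinearMap.lTensor A
          ((LinearMap.toSpanSingleton A M x).restrictScalars R)
        have h1 := congrArg L (hcomm a)
        simp only [map_sum, L, LinearMap.lTensor_tmul, LinearMap.restrictScalars_apply,
          LinearMap.toSpanSingleton_apply] at h1
        simp only [RingHom.id_apply, Finset.smul_sum, TensorProduct.smul_tmul', smul_eq_mul]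
        rw [h1]
        simp [mul_smul] }
  let q : A →ₗ[A] (M →ₗ[R] M) :=
    { toFun := fun a => Algebra.lsmul R R M a
      map_add' := fun a b => map_add _ _ _
      map_smul' := fun a b => by
        ext m
        simp }
  let p : A ⊗[R] M →ₗ[A] M := TensorProduct.AlgebraTensorModule.lift q
  refine Module.Projective.of_split s p ?_
  ext x
  simp only [LinearMap.comp_apply, LinearMap.coe_mk, AddHom.coe_mk, map_sum, s, p, q,
    TensorProduct.AlgebraTensorModule.lift_tmul, LinearMap.id_apply]
  have : ∀ l, (Algebra.lsmul R R M (c l)) (d l • x) = (c l * d l) • x := fun l => by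
    simp [smul_smul]
  simp_rw [this]
  rw [← Finset.sum_smul, hone, one_smul]

end proj

end K444.CentEnd
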