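import Mathlib.FieldTheory.Galois.Basic
import Mathlib.FieldTheory.SplittingField.Construction

/-!
# The compositum with a finite Galois extension
-/

set_option autoImplicit false
universe u v w
open Polynomial

namespace K444.Compos

theorem exists_compositum (E : Type v) (N : Type w) (M : Type u) [Field E] [Field N] [Field M]
    [Algebra E N] [Algebra E M] [FiniteDimensional E N] [IsGalois E N] :
    ∃ (M' : Type u) (_ : Field M') (_ : Algebra M M') (_ : Algebra E M') (_ : IsScalarTower E M M')
      (j : N →ₐ[E] M'), FiniteDimensional M M' ∧ IsGalois M M' ∧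
      ∀ g : M' ≃ₐ[M] M', (∀ x : N, g (j x) = j x) → g = 1 := by
  obtain ⟨f, hf, hfs⟩ := IsGalois.is_separable_splitting_field E N
  let p := f.map (algebraMap E M)
  have hp : p.Separable := hf.map
  let M' := p.SplittingField
  have hg : IsGalois M M' := IsGalois.of_separable_splitting_field hp
  have hmap : p.map (algebraMap M M') = f.map (algebraMap E M') := by
    rw [Polynomial.map_map, ← IsScalarTower.algebraMap_eq]
  have hsp : (f.map (algebraMap E M')).Splits := by
    rw [← hmap]
    exact SplittingField.splits p
  let j : N →ₐ[E] M' := IsSplittingField.lift N f hsp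
  refine ⟨M', inferInstance, inferInstance, inferInstance, inferInstance, j, inferInstance, hg, ?_⟩
  intro g hgx
  have h0 : p.rootSet M' = f.rootSet M' := by
    classical
    rw [rootSet_def, rootSet_def, aroots_def, aroots_def, hmap]
  have h1 : p.rootSet M' ⊆ (j.range : Set M') := by
    rw [h0, ← IsSplittingField.adjoin_rootSet_eq_range N f j]
    exact Algebra.subset_adjoin
  have h2 : Algebra.adjoin M (p.rootSet M') = ⊤ := SplittingField.adjoin_rootSet p
  have h3 : (g : M' →ₐ[M] M') = AlgHom.id M M' := by
    refine AlgHom.ext_of_adjoin_eq_top h2 ?_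
    intro x hx
    obtain ⟨y, rfl⟩ := h1 hx
    exact hgx y
  ext x
  exact DFunLike.congr_fun h3 x

end K444.Compos
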