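import Groth.Agent.Brauer.K444.AzMod

/-!
# Over a connected ring every Brauer class has a representative without nontrivial idempotents
-/

set_option autoImplicit false
universe u v w w'
open scoped TensorProduct
open MulOpposite

namespace K444.ConnRep

open K444.AzData K444.AzMod K444.AzOp

variable {R : Type u} [CommRing R] [ConnectedSpace (PrimeSpectrum R)]

/-- There is a nonzero f.g. projective `A`-module of minimal rank. -/
theorem exists_minimal (A : Type u) [Ring A] [Algebra R A] [IsAzumaya R A] :
    ∃ (M : Type u) (_ : AddCommGroup M) (_ : Module R M) (_ : Module A M)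
      (_ : IsScalarTower R A M), Module.Finite A M ∧ Module.Projective A M ∧ Nontrivial M ∧
      ∀ g : Module.End A M, IsIdempotentElem g → g = 0 ∨ g = 1 := by
  classical
  have hR : Nontrivial R := by
    obtain ⟨q⟩ : Nonempty (PrimeSpectrum R) := inferInstance
    exact PrimeSpectrum.nontrivial q
  have hA : Nontrivial A := (FaithfulSMul.algebraMap_injective R A).nontrivial
  obtain ⟨p⟩ : Nonempty (PrimeSpectrum R) := inferInstance
  let S : ℕ → Prop := fun n => ∃ (M : Type u) (_ : AddCommGroup M) (_ : Module R M)
    (_ : Module A M) (_ : IsScalarTower R A M), Module.Finite A M ∧ Module.Projective A M ∧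
    Nontrivial M ∧ Module.rankAtStalk (R := R) M p = n
  have hS : ∃ n, S n := ⟨_, A, inferInstance, inferInstance, inferInstance, inferInstance,
    inferInstance, inferInstance, inferInstance, rfl⟩
  obtain ⟨M, i1, i2, i3, i4, hf, hp, hn, hr⟩ := Nat.find_spec hS
  refine ⟨M, i1, i2, i3, i4, hf, hp, hn, fun g hg => ?_⟩
  have : Module.Finite R M := finite_tower R A M
  have : Module.Projective R M := projective_tower R A M
  by_contra hcon
  push Not at hcon
  obtain ⟨h0, h1⟩ := hcon
  -- the two summands
  have hgR : IsIdempotentElem (g.restrictScalars R : Module.End R M) := by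
    ext m
    exact LinearMap.congr_fun hg.eq m
  have hadd := rank_add hgR p
  have hn1 : Nontrivial (LinearMap.range g) := by
    by_contra hcon
    rw [not_nontrivial_iff_subsingleton] at hcon
    apply h0
    ext m
    exact congrArg Subtype.val (Subsingleton.elim (⟨g m, ⟨m, rfl⟩⟩ : LinearMap.range g) 0)
  have hn2 : Nontrivial (LinearMap.range (1 - g.restrictScalars R : Module.End R M)) := by
    by_contra hcon
    rw [not_nontrivial_iff_subsingleton] at hcon
    apply h1
    ext m
    have := congrArg Subtype.val (Subsingleton.elim (⟨(1 - g.restrictScalars R : Module.End R M) m,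
      ⟨m, rfl⟩⟩ : LinearMap.range (1 - g.restrictScalars R : Module.End R M)) 0)
    simp only [LinearMap.sub_apply, Module.End.one_apply, LinearMap.restrictScalars_apply,
      Submodule.coe_zero] at this
    rw [Module.End.one_apply]
    exact (sub_eq_zero.1 this).symm
  have hf2 : Module.Finite R (LinearMap.range (1 - g.restrictScalars R : Module.End R M)) :=
    Module.Finite.range _
  have hp2 := projective_range R M hgR.one_sub
  have hpos := ConnRank.rank_pos (R := R)
    (LinearMap.range (1 - g.restrictScalars R : Module.End R M)) p
  have hlt : Module.rankAtStalk (R := R) (LinearMap.range g) p < Nat.find hS := by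
    rw [← hr, ← hadd]
    have : Module.rankAtStalk (R := R) (LinearMap.range g) p =
      Module.rankAtStalk (R := R) (LinearMap.range (g.restrictScalars R : Module.End R M)) p := rfl
    rw [this]
    omega
  exact Nat.find_min hS hlt ⟨LinearMap.range g, inferInstance, inferInstance, inferInstance,
    inferInstance, finite_range A M g, projective_range A M hg, hn1, rfl⟩

theorem main (A : Type u) [Ring A] [Algebra R A] [IsAzumaya R A] :
    ∃ (B : Type u) (_ : Ring B) (_ : Algebra R B) (_ : IsAzumaya R B) (P Q : Type u)
      (_ : AddCommGroup P) (_ : Module R P) (_ : AddCommGroup Q) (_ : Module R Q),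
      (∀ b : B, IsIdempotentElem b → b = 0 ∨ b = 1) ∧ Module.Finite R P ∧ Module.Projective R P ∧
      FaithfulSMul R P ∧ Module.Finite R Q ∧ Module.Projective R Q ∧ FaithfulSMul R Q ∧
      Nonempty (A ⊗[R] Module.End R P ≃ₐ[R] B ⊗[R] Module.End R Q) := by
  obtain ⟨M, i1, i2, i3, i4, hf, hp, hn, hidem⟩ := exists_minimal (R := R) A
  have hfR : Module.Finite R M := finite_tower R A M
  have hpR : Module.Projective R M := projective_tower R A M
  have hfaith : FaithfulSMul R M := ConnRank.faithful_of_nontrivial M
  have hEnd : IsAzumaya R (Module.End R M) := AzOps.isAzumaya_end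
  let e := DoubleCent.tensorEndEquiv R A M
  have hAD : IsAzumaya R (A ⊗[R] Module.End A M) := IsAzumaya.of_AlgEquiv R _ _ e.symm
  obtain ⟨f, hf1⟩ := exists_linear_one (R := R) (A := A)
  have hD : IsAzumaya R (Module.End A M) := AzOps.isAzumaya_right_of_tensor f hf1
  have hDop : IsAzumaya R (Module.End A M)ᵐᵒᵖ := AzOp.isAzumaya_op
  refine ⟨(Module.End A M)ᵐᵒᵖ, inferInstance, inferInstance, hDop, Module.End A M, M,
    inferInstance, inferInstance, inferInstance, inferInstance, ?_, inferInstance, inferInstance,
    inferInstance, inferInstance, inferInstance, inferInstance, ⟨?_⟩⟩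
  · intro b hb
    have hb' : IsIdempotentElem b.unop := by
      have := congrArg unop hb.eq
      exact this
    rcases hidem _ hb' with h | h
    · left; exact unop_injective h
    · right; exact unop_injective h
  · exact ((Algebra.TensorProduct.congr AlgEquiv.refl (tensorOpEquivEnd R (Module.End A M)).symm).trans
      (Algebra.TensorProduct.assoc R R R A (Module.End A M) (Module.End A M)ᵐᵒᵖ).symm).trans
      ((Algebra.TensorProduct.congr e AlgEquiv.refl).trans (Algebra.TensorProduct.comm R _ _))

end K444.ConnRep
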