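import Groth.Agent.Brauer.K444.GalTors
import Groth.Agent.NonAbH1.K551.Tors

/-!
# Constant points and base change
-/

set_option autoImplicit false
universe u

open CategoryTheory CategoryTheory.Limits MonoidalCategory CartesianMonoidalCategory MonObj GrpObj AlgebraicGeometry
open Groth.Agent.Books.BorelOrb K554.Fpqc K554.BcPt
open scoped TensorProduct

namespace K444.CstPt

section general

variable {S S' : Scheme.{u}} (f : S' ⟶ S) {G X : Over S} [GrpObj G] (a : AlgGrp.Action G X)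

theorem sm_bc {Y : Over S'} (g : (Over.map f).obj Y ⟶ G) (x : (Over.map f).obj Y ⟶ X) :
    sm (a.bc f) (mk f g) (mk f x) = mk f (sm a g x) :=
  AlgGrp.Action.lift_homEquiv_bc_act f a g x

theorem un_sm_bc {Y : Over S'} (g : Y ⟶ Red.bc f G) (x : Y ⟶ Red.bc f X) :
    un f (sm (a.bc f) g x) = sm a (un f g) (un f x) := by
  conv_lhs => rw [← mk_un f g, ← mk_un f x, sm_bc, un_mk]

end general

section

variable {S : Scheme.{u}} {G : Over S} (γ : 𝟙_ (Over S) ⟶ G)

/-- The constant point. -/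
noncomputable def cp (T : Over S) : T ⟶ G := toUnit T ≫ γ

theorem comp_cp {T T' : Over S} (t : T' ⟶ T) : t ≫ cp γ T = cp γ T' := by
  rw [cp, cp, ← Category.assoc, toUnit_unique (t ≫ toUnit T) (toUnit T')]

theorem cp_left (T : Over S) : (cp γ T).left = T.hom ≫ γ.left := rfl

/-- The constant point of a base change. -/
noncomputable def bcc {S' : Scheme.{u}} (f : S' ⟶ S) : 𝟙_ (Over S') ⟶ Red.bc f G := mk f (cp γ _)

theorem cp_bcc {S' : Scheme.{u}} (f : S' ⟶ S) (T : Over S') : cp (bcc γ f) T = mk f (cp γ _) := by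
  rw [cp, bcc, comp_mk, comp_cp]

/-- The constant points of iterated base changes are compatible with `bcCompIso`. -/
theorem cp_bcc_bcCompIso {S' S'' : Scheme.{u}} (f : S'' ⟶ S') (g : S' ⟶ S) {d : S'' ⟶ S} (h : f ≫ g = d) (T : Over S'') :
    cp (bcc (bcc γ g) f) T ≫ (ActBC.bcCompIso f g G h).hom = cp (bcc γ d) T := by
  apply un_injective d
  ext1
  rw [un_left, un_left, Over.comp_left, Category.assoc, ActBC.bcCompIso_hom_left_fst, cp_bcc, cp_bcc,
    ← Category.assoc, mk_left_fst, mk_left_fst, cp_bcc, mk_left_fst, cp_left, cp_left]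
  subst h
  exact congrArg (· ≫ γ.left) (Category.assoc _ _ _)

end

section transfer

variable {S S₀ S₁ S₂ : Scheme.{u}} {p : S₂ ⟶ S₁} {f : S₁ ⟶ S} {q : S₂ ⟶ S₀} {f₀ : S₀ ⟶ S} (hc : q ≫ f₀ = p ≫ f)
  {G : Over S} [GrpObj G] {X₁ : Over S₁} {X₀ : Over S₀} (a : AlgGrp.Action (Red.bc f₀ G) X₀)
  (b : AlgGrp.Action (Red.bc f G) X₁)
  (e : NonAbH1.EquivIso ((a.bc q).restrict (ActBC.bcCompIso q f₀ G hc).inv)
    ((b.bc p).restrict (ActBC.bcCompIso p f G rfl).inv))
  {Y : Over S₂} (x₁ : (Over.map p).obj Y ⟶ X₁)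

/-- The transported point. -/
noncomputable def tp : (Over.map q).obj Y ⟶ X₀ := un q (mk p x₁ ≫ e.iso.inv)

omit [GrpObj G] in
include hc in
theorem cp_inv (γ : 𝟙_ (Over S) ⟶ G) : cp (bcc γ (p ≫ f)) Y ≫ (ActBC.bcCompIso q f₀ G hc).inv =
    cp (bcc (bcc γ f₀) q) Y := by
  rw [← cp_bcc_bcCompIso γ q f₀ hc Y, Category.assoc, Iso.hom_inv_id, Category.comp_id]

theorem tp_equivariant (t : Y ⟶ Y) (γ : 𝟙_ (Over S) ⟶ G)
    (h : (Over.map p).map t ≫ x₁ = x₁ ≫ tr b (bcc γ f)) :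
    (Over.map q).map t ≫ tp hc a b e x₁ = tp hc a b e x₁ ≫ tr a (bcc γ f₀) := by
  have h1 : t ≫ mk p x₁ = sm ((b.bc p).restrict (ActBC.bcCompIso p f G rfl).inv) (cp (bcc γ (p ≫ f)) Y) (mk p x₁) := by
    rw [sm_restrict, cp_inv rfl, cp_bcc, sm_bc, comp_mk, h, comp_tr]
    rfl
  have h2 : t ≫ mk p x₁ ≫ e.iso.inv = sm ((a.bc q).restrict (ActBC.bcCompIso q f₀ G hc).inv)
      (cp (bcc γ (p ≫ f)) Y) (mk p x₁ ≫ e.iso.inv) := by
    rw [← cancel_mono e.iso.hom, K551.Tors.equivIso_sm, Category.assoc, Category.assoc,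
      Iso.inv_hom_id, Category.comp_id, h1]
  rw [sm_restrict, cp_inv hc] at h2
  have h3 := congrArg (un q) h2
  rw [un_sm_bc, un_comp, cp_bcc, un_mk] at h3
  rw [tp, h3, comp_tr]
  rfl

theorem tp_faithful (t : Y ⟶ Y) (h : (Over.map q).map t ≫ tp hc a b e x₁ = tp hc a b e x₁) :
    (Over.map p).map t ≫ x₁ = x₁ := by
  rw [tp, ← un_comp] at h
  have h1 := un_injective q h
  rw [← Category.assoc, cancel_mono, comp_mk] at h1
  exact mk_injective p h1

end transfer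

end K444.CstPt
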