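import Groth.Agent.Brauer.K444.CstPt

/-!
# The stable set of algebraic elements attached to a compression of the torsor
-/

set_option autoImplicit false
universe u

open CategoryTheory CategoryTheory.Limits MonoidalCategory CartesianMonoidalCategory MonObj GrpObj AlgebraicGeometry
open Groth.Agent.Books.BorelOrb K554.Fpqc K554.BcPt
open scoped TensorProduct

namespace K444.Extract

section

variable (k K N Γ : Type u) [CommRing k] [CommRing K] [CommRing N] [Algebra k K] [Algebra K N] [Algebra k N]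
  [IsScalarTower k K N] [Group Γ] [Fintype Γ] [DecidableEq Γ] [MulSemiringAction Γ N] [SMulCommClass Γ k N]

/-- The constant section of index `γ`. -/
noncomputable def cg (γ : Γ) : 𝟙_ (Over (Spec (CommRingCat.of k))) ⟶ ConstAct.GR k Γ :=
  Over.homMk (Spec.map (CommRingCat.ofHom (ConstGrp.ev k γ).toRingHom)) (by
    change Spec.map _ ≫ Spec.map (CommRingCat.ofHom (algebraMap k (ConstGrp.F k Γ))) = 𝟙 _
    rw [← Spec.map_comp, ← Spec.map_id]
    rfl)

theorem tr_gaction (γ : Γ) : tr (ConstAct.gaction k N Γ) (cg k Γ γ) =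
    CoactBr.pt (MulSemiringAction.toAlgEquiv k N γ⁻¹ : N →ₐ[k] N) := by
  have h1 : toUnit (ConstAct.X k N) ≫ cg k Γ γ = CoactBr.pt (ConstAct.constPt k Γ γ) := by
    ext1
    change Spec.map (CommRingCat.ofHom (algebraMap k N)) ≫ Spec.map _ = Spec.map _
    rw [← Spec.map_comp]
    rfl
  rw [tr, h1, ← CoactBr.pt_id]
  refine (GalTors.sm_pt k N Γ _ _ _).mpr fun a => ?_
  simp only [ConstAct.constPt_apply, ConstGrp.e_apply, AlgHom.id_apply, apply_ite (algebraMap k N), map_one, map_zero,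
    mul_ite, _root_.mul_one, mul_zero, Finset.sum_ite_eq, Finset.mem_univ, if_true]
  rfl

variable [SMulCommClass Γ K N]

theorem tr_act_left (γ : Γ) : (tr (GalTors.act k K N Γ) (CstPt.bcc (cg k Γ γ) (GalTors.fS k K))).left =
    Spec.map (CommRingCat.ofHom (MulSemiringAction.toRingHom Γ N γ⁻¹)) := by
  have h1 : RelAct.dn (GalTors.fS k K) (GalTors.piN k K N) (GalTors.piN_f k K N)
      (tr (GalTors.act k K N Γ) (CstPt.bcc (cg k Γ γ) (GalTors.fS k K))) =
      RelAct.dn (GalTors.fS k K) (GalTors.piN k K N) (GalTors.piN_f k K N) (𝟙 _) ≫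
        tr (ConstAct.gaction k N Γ) (cg k Γ γ) := by
    rw [comp_tr, tr, GalTors.dn_sm_act]
    congr 1
    change un _ (CstPt.cp (CstPt.bcc (cg k Γ γ) (GalTors.fS k K)) _) = _
    rw [CstPt.cp_bcc, un_mk]
    rfl
  rw [tr_gaction] at h1
  have h2 := congrArg (fun z => z.left) h1
  exact h2.trans (Category.id_comp _)

end

section th

/-- The ring homomorphism of a point with values in a ring. -/
noncomputable def th {X : Scheme.{u}} {R : Type u} [CommRing R] (m : Spec (CommRingCat.of R) ⟶ X) : Γ(X, ⊤) →+* R :=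
  (m.appTop ≫ (Scheme.ΓSpecIso (CommRingCat.of R)).hom).hom

theorem th_comp {X Y : Scheme.{u}} {R : Type u} [CommRing R] (m : Spec (CommRingCat.of R) ⟶ X) (n : X ⟶ Y)
    (s : Γ(Y, ⊤)) : th (m ≫ n) s = th m (n.appTop s) := by
  rw [th, th, Scheme.Hom.comp_appTop, Category.assoc]
  rfl

theorem th_map_comp {X : Scheme.{u}} {R R' : Type u} [CommRing R] [CommRing R'] (m : Spec (CommRingCat.of R) ⟶ X)
    (g : R →+* R') (s : Γ(X, ⊤)) : th (Spec.map (CommRingCat.ofHom g) ≫ m) s = g (th m s) := by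
  have h1 : (Spec.map (CommRingCat.ofHom g) ≫ m).appTop ≫ (Scheme.ΓSpecIso (CommRingCat.of R')).hom =
      (m.appTop ≫ (Scheme.ΓSpecIso (CommRingCat.of R)).hom) ≫ CommRingCat.ofHom g := by
    rw [Scheme.Hom.comp_appTop, Category.assoc, Scheme.ΓSpecIso_naturality, Category.assoc]
  exact congrArg (fun z => z.hom s) h1

theorem eq_of_th {X : Scheme.{u}} [IsAffine X] {R : Type u} [CommRing R] (m n : Spec (CommRingCat.of R) ⟶ X)
    (h : ∀ s, th m s = th n s) : m = n := by
  apply ext_of_isAffine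
  rw [← cancel_mono (Scheme.ΓSpecIso (CommRingCat.of R)).hom]
  exact CommRingCat.hom_ext (RingHom.ext h)

theorem th_specMap {R A : Type u} [CommRing R] [CommRing A] (φ : A →+* R) (a : Γ(Spec (CommRingCat.of A), ⊤)) :
    th (Spec.map (CommRingCat.ofHom φ)) a = φ ((Scheme.ΓSpecIso (CommRingCat.of A)).hom a) := by
  have h1 : (Spec.map (CommRingCat.ofHom φ)).appTop ≫
      (Scheme.ΓSpecIso (CommRingCat.of R)).hom = (Scheme.ΓSpecIso (CommRingCat.of A)).hom ≫ CommRingCat.ofHom φ := by
    rw [Scheme.ΓSpecIso_naturality]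
  exact congrArg (fun z => z.hom a) h1

end th

section

variable {k K N Γ L L₀ M' : Type u} [Field k] [Field K] [Field N] [Field L] [Field L₀] [Field M']
  [Algebra k K] [Algebra K N] [Algebra k N] [IsScalarTower k K N] [Group Γ] [Fintype Γ] [DecidableEq Γ]
  [MulSemiringAction Γ N] [SMulCommClass Γ k N] [SMulCommClass Γ K N]
  [Algebra K L] [Algebra k L₀] [Algebra L₀ L] [Algebra L M'] [Algebra L₀ M'] [IsScalarTower L₀ L M']

theorem exists_set
    (hc : Spec.map (CommRingCat.ofHom (algebraMap L₀ L)) ≫ Spec.map (CommRingCat.ofHom (algebraMap k L₀)) =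
      Spec.map (CommRingCat.ofHom (algebraMap K L)) ≫ Spec.map (CommRingCat.ofHom (algebraMap k K)))
    {X₀ : Over (Spec (CommRingCat.of L₀))} [IsFinite X₀.hom]
    (a : AlgGrp.Action (Red.bc (Spec.map (CommRingCat.ofHom (algebraMap k L₀))) (ConstAct.GR k Γ)) X₀)
    (e : NonAbH1.EquivIso ((a.bc (Spec.map (CommRingCat.ofHom (algebraMap L₀ L)))).restrict
              (ActBC.bcCompIso (Spec.map (CommRingCat.ofHom (algebraMap L₀ L)))
                (Spec.map (CommRingCat.ofHom (algebraMap k L₀))) (ConstAct.GR k Γ) hc).inv)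
            (((GalTors.act k K N Γ).bc (Spec.map (CommRingCat.ofHom (algebraMap K L)))).restrict
              (ActBC.bcCompIso (Spec.map (CommRingCat.ofHom (algebraMap K L)))
                (Spec.map (CommRingCat.ofHom (algebraMap k K))) (ConstAct.GR k Γ) rfl).inv))
    (jN : N →+* M') (hj : ∀ x : K, jN (algebraMap K N x) = algebraMap L M' (algebraMap K L x)) :
    ∃ T : Set M', (∀ t ∈ T, IsAlgebraic L₀ t) ∧
      (∀ (g : M' →+* M') (γ : Γ), (∀ l : L, g (algebraMap L M' l) = algebraMap L M' l) →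
        (∀ x, g (jN x) = jN (γ • x)) → ∀ t ∈ T, g t ∈ T) ∧
      (∀ (g : M' →+* M'), (∀ l : L, g (algebraMap L M' l) = algebraMap L M' l) →
        (∀ t ∈ T, g t = t) → ∀ x, g (jN x) = jN x) := by
  let p : Spec (CommRingCat.of L) ⟶ Spec (CommRingCat.of K) := Spec.map (CommRingCat.ofHom (algebraMap K L))
  let q : Spec (CommRingCat.of L) ⟶ Spec (CommRingCat.of L₀) := Spec.map (CommRingCat.ofHom (algebraMap L₀ L))
  let Y : Over (Spec (CommRingCat.of L)) := Over.mk (Spec.map (CommRingCat.ofHom (algebraMap L M')))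
  let x₁ : (Over.map p).obj Y ⟶ Over.mk (GalTors.piN k K N) := Over.homMk (Spec.map (CommRingCat.ofHom jN)) (by
    change Spec.map _ ≫ Spec.map _ = Spec.map _ ≫ Spec.map _
    rw [← Spec.map_comp, ← Spec.map_comp]
    congr 1
    exact CommRingCat.hom_ext (RingHom.ext hj))
  let x₀ := CstPt.tp hc a (GalTors.act k K N Γ) e x₁
  let m : Spec (CommRingCat.of M') ⟶ X₀.left := x₀.left
  have hm : m ≫ X₀.hom = Spec.map (CommRingCat.ofHom (algebraMap L₀ M')) := by
    have h1 : m ≫ X₀.hom = Spec.map (CommRingCat.ofHom (algebraMap L M')) ≫ q := Over.w x₀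
    rw [h1]
    change Spec.map _ ≫ Spec.map _ = _
    rw [← Spec.map_comp, ← CommRingCat.ofHom_comp, ← IsScalarTower.algebraMap_eq]
  have hX : IsAffine X₀.left := isAffine_of_isAffineHom X₀.hom
  refine ⟨Set.range (th m), ?_, ?_, ?_⟩
  · rintro _ ⟨s, rfl⟩
    have h1 : X₀.hom.appTop.hom.IsIntegral := by
      have h2 : IsIntegralHom X₀.hom := inferInstance
      exact h2.isIntegral_app _ (isAffineOpen_top _)
    obtain ⟨P, hP, hPs⟩ := h1 s
    refine IsIntegral.isAlgebraic ⟨P.map (Scheme.ΓSpecIso (CommRingCat.of L₀)).hom.hom, hP.map _, ?_⟩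
    have h3 : (algebraMap L₀ M').comp (Scheme.ΓSpecIso (CommRingCat.of L₀)).hom.hom =
        (th m).comp X₀.hom.appTop.hom := by
      ext r
      change algebraMap L₀ M' ((Scheme.ΓSpecIso (CommRingCat.of L₀)).hom r) = th m (X₀.hom.appTop r)
      rw [← th_comp, hm, th_specMap]
    rw [Polynomial.eval₂_map, h3, ← Polynomial.hom_eval₂, hPs, map_zero]
  · rintro g γ hg hgx _ ⟨s, rfl⟩
    let t : Y ⟶ Y := Over.homMk (Spec.map (CommRingCat.ofHom g)) (by
      change Spec.map _ ≫ Spec.map _ = Spec.map _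
      rw [← Spec.map_comp]
      congr 1
      exact CommRingCat.hom_ext (RingHom.ext hg))
    have h1 : (Over.map p).map t ≫ x₁ = x₁ ≫ tr (GalTors.act k K N Γ) (CstPt.bcc (cg k Γ γ⁻¹) (GalTors.fS k K)) := by
      ext1
      rw [Over.comp_left, Over.comp_left, tr_act_left, _root_.inv_inv]
      change Spec.map _ ≫ Spec.map _ = Spec.map _ ≫ Spec.map _
      rw [← Spec.map_comp, ← Spec.map_comp]
      congr 1
      exact CommRingCat.hom_ext (RingHom.ext hgx)
    have h2 := CstPt.tp_equivariant hc a (GalTors.act k K N Γ) e x₁ t (cg k Γ γ⁻¹) h1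
    have h3 : Spec.map (CommRingCat.ofHom g) ≫ m =
        m ≫ (tr a (CstPt.bcc (cg k Γ γ⁻¹) (Spec.map (CommRingCat.ofHom (algebraMap k L₀))))).left :=
      congrArg (fun z => z.left) h2
    rw [← th_map_comp, h3, th_comp]
    exact ⟨_, rfl⟩
  · intro g hg hgt x
    let t : Y ⟶ Y := Over.homMk (Spec.map (CommRingCat.ofHom g)) (by
      change Spec.map _ ≫ Spec.map _ = Spec.map _
      rw [← Spec.map_comp]
      congr 1
      exact CommRingCat.hom_ext (RingHom.ext hg))
    have h1 : (Over.map q).map t ≫ x₀ = x₀ := by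
      ext1
      change Spec.map (CommRingCat.ofHom g) ≫ m = m
      exact eq_of_th _ _ fun s => by rw [th_map_comp, hgt _ ⟨s, rfl⟩]
    have h2 := CstPt.tp_faithful hc a (GalTors.act k K N Γ) e x₁ t h1
    have h3 : Spec.map (CommRingCat.ofHom g) ≫ Spec.map (CommRingCat.ofHom jN) = Spec.map (CommRingCat.ofHom jN) :=
      congrArg (fun z => z.left) h2
    rw [← Spec.map_comp] at h3
    exact congrArg (fun z => z.hom x) (Spec.map_injective h3)

end

end K444.Extract
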