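import Groth.Prelude.Def_ConstAct2
import Mathlib.Algebra.BigOperators.Ring.Finset

/-!
# Galois algebras: the translation idempotents of two points
-/

set_option autoImplicit false
universe u v w

namespace K444.GalPts

section

variable {K N Γ R : Type*} [CommRing K] [CommRing N] [Algebra K N] [Group Γ] [Fintype Γ] [DecidableEq Γ]
  [MulSemiringAction Γ N] [CommRing R] (x y : N →+* R) {ι : Type*} [Fintype ι] (X Y : ι → N)

/-- The value at `g` of the translation from `y` to `x`. -/
def ph (g : Γ) : R := ∑ i, y (g⁻¹ • X i) * x (Y i)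

variable (hXY : ∀ g : Γ, ∑ i, X i * g • Y i = if g = 1 then 1 else 0)

omit [Fintype Γ] in
include hXY in
theorem sum_inv (g h : Γ) : ∑ i, (h⁻¹ • X i) * (g⁻¹ • Y i) = if g = h then 1 else 0 := by
  have h1 := congrArg (fun z => h⁻¹ • z) (hXY (h * g⁻¹))
  simp only [Finset.smul_sum, smul_mul', smul_smul, inv_mul_cancel_left] at h1
  rw [h1]
  by_cases hgh : g = h
  · subst hgh; simp
  · have h2 : h * g⁻¹ ≠ 1 := fun h3 => hgh (by rw [mul_inv_eq_one] at h3; exact h3.symm)
    rw [if_neg hgh, if_neg h2, smul_zero]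

variable (htr : ∀ b : N, ∃ t : K, algebraMap K N t = ∑ g : Γ, g • b)
  (hxy : ∀ t : K, x (algebraMap K N t) = y (algebraMap K N t))

omit [DecidableEq Γ] in
include htr hxy in
theorem tr_eq (b : N) : ∑ g : Γ, y (g⁻¹ • b) = x (∑ g : Γ, g⁻¹ • b) := by
  obtain ⟨t, ht⟩ := htr b
  have h1 : ∑ g : Γ, g⁻¹ • b = ∑ g : Γ, g • b := Equiv.sum_comp (Equiv.inv Γ) (fun g => g • b)
  rw [h1, ← ht, hxy, ← map_sum, h1, ht]

include hXY in
theorem expand (a : N) : ∑ i, (∑ g : Γ, g⁻¹ • (a * X i)) * Y i = a := by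
  simp only [Finset.sum_mul]
  rw [Finset.sum_comm]
  have h1 : ∀ g : Γ, ∑ i, g⁻¹ • (a * X i) * Y i = (g⁻¹ • a) * (if g = 1 then 1 else 0) := by
    intro g
    have h2 := sum_inv X Y hXY 1 g
    simp only [inv_one, one_smul] at h2
    simp only [smul_mul', mul_assoc, ← Finset.mul_sum, h2]
    simp only [eq_comm]
  simp only [h1, mul_ite, mul_one, mul_zero, Finset.sum_ite_eq', Finset.mem_univ, if_true, inv_one, one_smul]

include hXY htr hxy in
theorem eq_sum (a : N) : x a = ∑ g : Γ, y (g⁻¹ • a) * ph x y X Y g := by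
  have h1 : ∑ g : Γ, y (g⁻¹ • a) * ph x y X Y g = ∑ i, (∑ g : Γ, y (g⁻¹ • (a * X i))) * x (Y i) := by
    simp only [ph, Finset.mul_sum, Finset.sum_mul]
    rw [Finset.sum_comm]
    simp only [smul_mul', map_mul, mul_assoc]
  rw [h1]
  simp only [tr_eq x y htr hxy, ← map_mul, ← map_sum]
  rw [expand X Y hXY]

include hXY htr hxy in
theorem mul_ph (a : N) (h : Γ) : x a * ph x y X Y h = y (h⁻¹ • a) * ph x y X Y h := by
  have h1 : x a * ph x y X Y h = ∑ i, y (h⁻¹ • X i) * x (a * Y i) := by
    rw [ph, Finset.mul_sum]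
    exact Finset.sum_congr rfl fun i _ => by rw [map_mul]; ring
  have h2 : ∀ i, x (a * Y i) = ∑ j, (∑ g : Γ, y (g⁻¹ • (a * Y i * X j))) * x (Y j) := by
    intro i
    conv_lhs => rw [← expand X Y hXY (a * Y i)]
    rw [map_sum]
    exact Finset.sum_congr rfl fun j _ => by rw [map_mul, tr_eq x y htr hxy]
  rw [h1]
  simp only [h2, Finset.mul_sum, Finset.sum_mul]
  rw [Finset.sum_comm]
  rw [ph, Finset.mul_sum]
  refine Finset.sum_congr rfl fun j _ => ?_
  rw [Finset.sum_comm]
  have h3 : ∀ g : Γ, ∑ i, y (h⁻¹ • X i) * (y (g⁻¹ • (a * Y i * X j)) * x (Y j)) =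
      y (g⁻¹ • (a * X j)) * y (if g = h then 1 else 0) * x (Y j) := by
    intro g
    rw [← sum_inv X Y hXY g h, map_sum, Finset.mul_sum, Finset.sum_mul]
    exact Finset.sum_congr rfl fun i _ => by simp only [smul_mul', map_mul]; ring
  refine (Finset.sum_congr rfl fun g _ => h3 g).trans ?_
  simp only [apply_ite y, map_one, map_zero, mul_ite, mul_one, mul_zero, ite_mul, zero_mul,
    Finset.sum_ite_eq', Finset.mem_univ, if_true, smul_mul', map_mul]
  ring

include hXY htr hxy in
theorem ph_mul_ph (g h : Γ) : ph x y X Y g * ph x y X Y h = if g = h then ph x y X Y h else 0 := by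
  conv_lhs => rw [ph]
  rw [Finset.sum_mul]
  have h1 : ∀ i, y (g⁻¹ • X i) * x (Y i) * ph x y X Y h = y ((g⁻¹ • X i) * (h⁻¹ • Y i)) * ph x y X Y h := by
    intro i
    rw [mul_assoc, mul_ph x y X Y hXY htr hxy, map_mul, mul_assoc]
  simp only [h1, ← Finset.sum_mul, ← map_sum]
  rw [sum_inv X Y hXY h g]
  by_cases hgh : g = h
  · rw [if_pos hgh, if_pos hgh.symm, map_one, one_mul]
  · rw [if_neg hgh, if_neg (fun h => hgh h.symm), map_zero, zero_mul]

include hXY htr hxy in
theorem sum_ph : ∑ g : Γ, ph x y X Y g = 1 := by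
  have h1 := eq_sum x y X Y hXY htr hxy 1
  simp only [smul_one, map_one, one_mul] at h1
  exact h1.symm

include hXY in
theorem ph_unique (ψ : Γ → R) (hψ : ∀ a, x a = ∑ g : Γ, y (g⁻¹ • a) * ψ g) (h : Γ) : ψ h = ph x y X Y h := by
  have h1 : ph x y X Y h = ∑ g : Γ, y (if g = h then 1 else 0) * ψ g := by
    simp only [ph, hψ, Finset.mul_sum]
    rw [Finset.sum_comm]
    refine Finset.sum_congr rfl fun g _ => ?_
    rw [← sum_inv X Y hXY g h, map_sum, Finset.sum_mul]
    exact Finset.sum_congr rfl fun i _ => by rw [map_mul]; ring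
  rw [h1]
  simp only [apply_ite y, map_one, map_zero, ite_mul, one_mul, zero_mul, Finset.sum_ite_eq', Finset.mem_univ, if_true]

end

section

variable {k K N Γ R : Type*} [CommRing k] [CommRing K] [CommRing N] [Algebra K N] [Group Γ] [Fintype Γ] [DecidableEq Γ]
  [MulSemiringAction Γ N] [CommRing R] [Algebra k R] (x y : N →+* R) {ι : Type*} [Fintype ι] (X Y : ι → N)
  (hXY : ∀ g : Γ, ∑ i, X i * g • Y i = if g = 1 then 1 else 0)
  (htr : ∀ b : N, ∃ t : K, algebraMap K N t = ∑ g : Γ, g • b)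
  (hxy : ∀ t : K, x (algebraMap K N t) = y (algebraMap K N t))

/-- The point of the constant group moving `y` to `x`. -/
noncomputable def phHom : ConstGrp.F k Γ →ₐ[k] R where
  toFun f := ∑ g : Γ, algebraMap k R (f g) * ph x y X Y g
  map_one' := by simp [sum_ph x y X Y hXY htr hxy]
  map_mul' f f' := by
    simp only [ConstGrp.mul_apply, map_mul, Finset.sum_mul_sum]
    refine Finset.sum_congr rfl fun g _ => ?_
    rw [Finset.sum_eq_single g]
    · have := ph_mul_ph x y X Y hXY htr hxy g g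
      rw [if_pos rfl] at this
      calc _ = algebraMap k R (f g) * algebraMap k R (f' g) * (ph x y X Y g * ph x y X Y g) := by rw [this]
        _ = _ := by ring
    · intro h _ hgh
      have := ph_mul_ph x y X Y hXY htr hxy g h
      rw [if_neg (fun h => hgh h.symm)] at this
      calc _ = algebraMap k R (f g) * algebraMap k R (f' h) * (ph x y X Y g * ph x y X Y h) := by ring
        _ = _ := by rw [this, mul_zero]
    · intro h; exact absurd (Finset.mem_univ _) h
  map_zero' := by simp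
  map_add' f f' := by simp [add_mul, Finset.sum_add_distrib]
  commutes' r := by
    simp only [ConstGrp.algebraMap_apply, ← Finset.mul_sum, sum_ph x y X Y hXY htr hxy, mul_one]

theorem phHom_e (g : Γ) : phHom (k := k) x y X Y hXY htr hxy (ConstGrp.e k g) = ph x y X Y g := by
  change ∑ h : Γ, algebraMap k R (ConstGrp.e k g h) * ph x y X Y h = _
  simp only [ConstGrp.e_apply, apply_ite (algebraMap k R), map_one, map_zero, ite_mul, one_mul, zero_mul,
    Finset.sum_ite_eq', Finset.mem_univ, if_true]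

end

end K444.GalPts
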