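import Groth.Agent.Brauer.K444.RelAct
import Groth.Agent.Brauer.K444.GalPts

/-!
# The torsor of a Galois algebra under the constant group scheme
-/

set_option autoImplicit false
universe u

open CategoryTheory CategoryTheory.Limits MonoidalCategory CartesianMonoidalCategory MonObj GrpObj AlgebraicGeometry
open Groth.Agent.Books.BorelOrb K554.Fpqc K554.BcPt
open scoped TensorProduct
open Opposite

namespace K444.GalTors

section

variable {k : Type u} [CommRing k] {B R : Type u} [CommRing B] [CommRing R] [Algebra k B] [Algebra k R]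

theorem pt_surjective (m : CoactBr.sp k R ⟶ CoactBr.sp k B) : ∃ φ : B →ₐ[k] R, CoactBr.pt φ = m := by
  have hm : m.left ≫ (CoactBr.sp k B).hom = (CoactBr.sp k R).hom := Over.w m
  let ψ : CommRingCat.of B ⟶ CommRingCat.of R := Spec.preimage m.left
  have hψ : Spec.map ψ = m.left := Spec.map_preimage _
  have h1 : Spec.map ψ ≫ Spec.map (CommRingCat.ofHom (algebraMap k B)) = Spec.map (CommRingCat.ofHom (algebraMap k R)) := by
    rw [hψ]; exact hm
  rw [← Spec.map_comp] at h1
  have h2 := Spec.map_injective h1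
  refine ⟨{ ψ.hom with commutes' := fun r => ?_ }, ?_⟩
  · exact congrArg (fun z => z.hom r) h2
  · ext1
    exact hψ

theorem isAffine_tensor {S : Scheme.{u}} (X Y : Over S) (hS : IsAffine S) (hX : IsAffine X.left) (hY : IsAffine Y.left) :
    IsAffine (X ⊗ Y).left :=
  inferInstanceAs (IsAffine (pullback X.hom Y.hom))

theorem exists_sp (T : Over (Spec (CommRingCat.of k))) (hT : IsAffine T.left) :
    ∃ (R : Type u) (_ : CommRing R) (_ : Algebra k R), Nonempty (CoactBr.sp k R ≅ T) := by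
  let R := Γ(T.left, ⊤)
  let ψ : CommRingCat.of k ⟶ R := Spec.preimage (T.left.isoSpec.inv ≫ T.hom)
  have hψ : Spec.map ψ = T.left.isoSpec.inv ≫ T.hom := Spec.map_preimage _
  let _ : Algebra k R := ψ.hom.toAlgebra
  refine ⟨R, inferInstance, inferInstance, ⟨Over.isoMk T.left.isoSpec.symm ?_⟩⟩
  exact hψ.symm

end

section

variable (k K N Γ : Type u) [CommRing k] [CommRing K] [CommRing N] [Algebra k K] [Algebra K N] [Algebra k N]
  [IsScalarTower k K N] [Group Γ] [Fintype Γ] [DecidableEq Γ] [MulSemiringAction Γ N] [SMulCommClass Γ k N]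

theorem sm_pt {R : Type u} [CommRing R] [Algebra k R] (φ : ConstGrp.F k Γ →ₐ[k] R) (y z : N →ₐ[k] R) :
    sm (ConstAct.gaction k N Γ) (CoactBr.pt φ) (CoactBr.pt y) = CoactBr.pt z ↔
      ∀ a, z a = ∑ g : Γ, y (g⁻¹ • a) * φ (ConstGrp.e k g) := by
  let _ := ConstAct.comod k N Γ
  have _ := ConstAct.isCoactAlg k N Γ
  have key : sm (ConstAct.gaction k N Γ) (CoactBr.pt φ) (CoactBr.pt y) = CoactBr.pt
      ((Algebra.TensorProduct.lift y (φ.comp (HopfAlgebra.antipodeAlgHom k (ConstGrp.F k Γ))) fun _ _ => .all _ _).comp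
        (GLin.coactAlgHom k (ConstGrp.F k Γ) N)) :=
    CoactBr.lift_pt_action_act φ y
  have h2 : ∀ a, ((Algebra.TensorProduct.lift y (φ.comp (HopfAlgebra.antipodeAlgHom k (ConstGrp.F k Γ))) fun _ _ => .all _ _).comp
        (GLin.coactAlgHom k (ConstGrp.F k Γ) N)) a = ∑ g : Γ, y (g⁻¹ • a) * φ (ConstGrp.e k g) := by
    intro a
    change (Algebra.TensorProduct.lift y (φ.comp (HopfAlgebra.antipodeAlgHom k (ConstGrp.F k Γ))) fun _ _ => .all _ _)
      (ConstAct.coactLin k N Γ a) = _
    rw [ConstAct.coactLin_apply, map_sum]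
    simp only [Algebra.TensorProduct.lift_tmul, AlgHom.comp_apply, HopfAlgebra.antipodeAlgHom_apply,
      ConstGrp.antipode_e]
    exact (Equiv.sum_comp (Equiv.inv Γ) (fun g => y (g⁻¹ • a) * φ (ConstGrp.e k g))).symm.trans
      (by simp) |>.symm
  rw [key]
  constructor
  · intro h a
    rw [← h2, CoactBr.pt_injective h]
  · intro h
    congr 1
    apply AlgHom.ext
    intro a
    rw [h2, h]

/-- The structure map of the base. -/
noncomputable abbrev fS : Spec (CommRingCat.of K) ⟶ Spec (CommRingCat.of k) :=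
  Spec.map (CommRingCat.ofHom (algebraMap k K))

/-- The structure map. -/
noncomputable abbrev piN : (ConstAct.X k N).left ⟶ Spec (CommRingCat.of K) :=
  Spec.map (CommRingCat.ofHom (algebraMap K N))

theorem piN_f : piN k K N ≫ fS k K = (ConstAct.X k N).hom := by
  change Spec.map _ ≫ Spec.map _ = Spec.map (CommRingCat.ofHom (algebraMap k N))
  rw [← Spec.map_comp, ← CommRingCat.ofHom_comp, ← IsScalarTower.algebraMap_eq]

variable [SMulCommClass Γ K N]

theorem act_piN : (ConstAct.gaction k N Γ).act.left ≫ piN k K N =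
    (snd (ConstAct.GR k Γ) (ConstAct.X k N)).left ≫ piN k K N := by
  let _ := ConstAct.comod k N Γ
  have _ := ConstAct.isCoactAlg k N Γ
  let i : K →ₐ[k] N := IsScalarTower.toAlgHom k K N
  have h1 : (ConstAct.gaction k N Γ).act ≫ CoactBr.pt i = snd (ConstAct.GR k Γ) (ConstAct.X k N) ≫ CoactBr.pt i := by
    refine (CoactBr.action_act_comp_eq_iff (CoactBr.pt i)).mpr ?_
    obtain ⟨R, _, _, ⟨α⟩⟩ := exists_sp (CoactBr.sp k N ⊗ CoactBr.sp k (ConstGrp.F k Γ))
      (isAffine_tensor _ _ inferInstance (isAffine_Spec _) (isAffine_Spec _))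
    obtain ⟨x, hx⟩ := pt_surjective (α.hom ≫ fst _ _)
    obtain ⟨g, hg⟩ := pt_surjective (α.hom ≫ snd _ _)
    have h3 : α.hom = lift (CoactBr.pt x) (CoactBr.pt g) := by
      rw [hx, hg, ← comp_lift, lift_fst_snd, Category.comp_id]
    rw [← cancel_epi α.hom, h3, ← Category.assoc, CoactBr.lift_pt_ract, ← Category.assoc, lift_fst,
      ← CoactBr.pt_comp, ← CoactBr.pt_comp]
    congr 1
    apply AlgHom.ext
    intro t
    change (Algebra.TensorProduct.lift x g fun _ _ => .all _ _) (ConstAct.coactLin k N Γ (algebraMap K N t)) =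
      x (algebraMap K N t)
    rw [ConstAct.coactLin_apply, map_sum]
    have h4 : ∀ g' : Γ, g' • (algebraMap K N t) = algebraMap K N t := fun g' => smul_algebraMap g' t
    simp only [h4, Algebra.TensorProduct.lift_tmul]
    rw [← Finset.mul_sum, ← map_sum, ConstGrp.sum_e, map_one, _root_.mul_one]
  exact congrArg (fun z => z.left) h1

/-- The action of the base change of the constant group on a Galois algebra. -/
noncomputable def act : AlgGrp.Action (Red.bc (fS k K) (ConstAct.GR k Γ)) (Over.mk (piN k K N)) :=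
  RelAct.relAct (fS k K) (ConstAct.gaction k N Γ) (piN k K N) (piN_f k K N) (act_piN k K N Γ)

theorem dn_sm_act {Y : Over (Spec (CommRingCat.of K))} (g : Y ⟶ Red.bc (fS k K) (ConstAct.GR k Γ))
    (y : Y ⟶ Over.mk (piN k K N)) :
    RelAct.dn (fS k K) (piN k K N) (piN_f k K N) (sm (act k K N Γ) g y) =
      sm (ConstAct.gaction k N Γ) (un (fS k K) g) (RelAct.dn (fS k K) (piN k K N) (piN_f k K N) y) :=
  RelAct.dn_sm_relAct _ _ _ _ _ g y

variable {J : Type*} [Fintype J] (Xd Yd : J → N) (hXY : ∀ g : Γ, ∑ i, Xd i * g • Yd i = if g = 1 then 1 else 0)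
  (htr : ∀ b : N, ∃ t : K, algebraMap K N t = ∑ g : Γ, g • b)

omit [Algebra k K] [IsScalarTower k K N] [SMulCommClass Γ K N] in
include hXY htr in
theorem existsUnique_pt {R : Type u} [CommRing R] [Algebra k R] (x y : N →ₐ[k] R)
    (hxy : ∀ t : K, x (algebraMap K N t) = y (algebraMap K N t)) :
    ∃! g : CoactBr.sp k R ⟶ ConstAct.GR k Γ, sm (ConstAct.gaction k N Γ) g (CoactBr.pt y) = CoactBr.pt x := by
  refine ⟨CoactBr.pt (GalPts.phHom (x : N →+* R) (y : N →+* R) Xd Yd hXY htr hxy), ?_, ?_⟩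
  · refine (sm_pt k N Γ _ y x).mpr fun a => ?_
    simp only [GalPts.phHom_e]
    exact GalPts.eq_sum (x : N →+* R) (y : N →+* R) Xd Yd hXY htr hxy a
  · intro g hg
    obtain ⟨φ, rfl⟩ := pt_surjective g
    congr 1
    refine ConstGrp.algHom_ext fun h => ?_
    rw [GalPts.phHom_e]
    exact GalPts.ph_unique (x : N →+* R) (y : N →+* R) Xd Yd hXY (fun g => φ (ConstGrp.e k g))
      ((sm_pt k N Γ φ y x).mp hg) h

include hXY htr in
theorem isPseudoTorsorSch_act : NonAbH1.IsPseudoTorsorSch (act k K N Γ) := by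
  have hb : IsAffine (Red.bc (fS k K) (ConstAct.GR k Γ)).left := by
    have : IsAffine (ConstAct.GR k Γ).left := isAffine_Spec _
    exact inferInstanceAs (IsAffine (pullback (ConstAct.GR k Γ).hom (fS k K)))
  have hN : IsAffine (Over.mk (piN k K N)).left := isAffine_Spec _
  refine RelAct.isPseudoTorsorSch_relAct _ _ _ _ _ (fun Y => IsAffine Y.left)
    (isAffine_tensor _ _ inferInstance hb hN) (isAffine_tensor _ _ inferInstance hN hN) ?_
  intro Y hY x x'
  obtain ⟨R, _, _, ⟨α⟩⟩ := exists_sp ((Over.map (fS k K)).obj Y) hY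
  obtain ⟨z, hz⟩ := pt_surjective (α.hom ≫ RelAct.dn (fS k K) (piN k K N) (piN_f k K N) x)
  obtain ⟨z', hz'⟩ := pt_surjective (α.hom ≫ RelAct.dn (fS k K) (piN k K N) (piN_f k K N) x')
  have hzz : ∀ t : K, z (algebraMap K N t) = z' (algebraMap K N t) := by
    have h1 : (CoactBr.pt z).left ≫ piN k K N = (CoactBr.pt z').left ≫ piN k K N := by
      rw [hz, hz', Over.comp_left, Over.comp_left, Category.assoc, Category.assoc]
      congr 1
      exact (Over.w x).trans (Over.w x').symm
    have h2 : CommRingCat.ofHom (algebraMap K N) ≫ CommRingCat.ofHom z.toRingHom =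
        CommRingCat.ofHom (algebraMap K N) ≫ CommRingCat.ofHom z'.toRingHom := by
      apply Spec.map_injective
      rw [Spec.map_comp, Spec.map_comp]
      exact h1
    intro t
    exact congrArg (fun m => m.hom t) h2
  obtain ⟨g, hg, hu⟩ := existsUnique_pt k K N Γ Xd Yd hXY htr z z' hzz
  refine ⟨α.inv ≫ g, ?_, fun g' hg' => ?_⟩
  · have h1 : RelAct.dn (fS k K) (piN k K N) (piN_f k K N) x' = α.inv ≫ CoactBr.pt z' := by
      rw [hz', Iso.inv_hom_id_assoc]
    change sm _ (α.inv ≫ g) (RelAct.dn (fS k K) (piN k K N) (piN_f k K N) x') = _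
    rw [h1, ← comp_sm, hg, hz, Iso.inv_hom_id_assoc]
  · have h2 := hu (α.hom ≫ g') (by
      change sm _ (α.hom ≫ g') (CoactBr.pt z') = _
      rw [hz', ← comp_sm, hg', hz])
    rw [← h2, Iso.inv_hom_id_assoc]

end

end K444.GalTors
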