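import Groth.Agent.Brauer.K444.CentEnd

/-!
# Azumaya algebras over LG-rings
-/

set_option autoImplicit false
universe u v w w' w''
open scoped TensorProduct
open MulOpposite

namespace K444.LGAz

section modules

variable {R : Type u} [CommRing R] (hR : LGRing.IsLGRing R)
  {A : Type v} [Ring A] [Algebra R A] [IsAzumaya R A]
  (M : Type w) [AddCommGroup M] [Module R M] [Module A M] [IsScalarTower R A M]
  (N : Type w') [AddCommGroup N] [Module R N] [Module A N] [IsScalarTower R A N]
  [Module.Finite A M] [Module.Projective A M] [Module.Finite A N] [Module.Projective A N]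

include hR in
theorem nonempty_equiv_of_rank_eq
    (h : ∀ p : PrimeSpectrum R, Module.rankAtStalk (R := R) M p = Module.rankAtStalk (R := R) N p) :
    Nonempty (M ≃ₗ[A] N) := by
  have : Module.Finite R M := AzMod.finite_tower R A M
  have : Module.Projective R M := AzMod.projective_tower R A M
  have : Module.Finite R N := AzMod.finite_tower R A N
  have : Module.Projective R N := AzMod.projective_tower R A N
  exact LG.exists_iso hR (fun m hm => BCMod.exists_pair_of_eq m (h _))

include hR in
theorem exists_split_of_rank_le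
    (h : ∀ p : PrimeSpectrum R, Module.rankAtStalk (R := R) N p ≤ Module.rankAtStalk (R := R) M p) :
    ∃ (φ : M →ₗ[A] N) (ψ : N →ₗ[A] M), Function.Bijective (φ ∘ₗ ψ) := by
  have : Module.Finite R M := AzMod.finite_tower R A M
  have : Module.Projective R M := AzMod.projective_tower R A M
  have : Module.Finite R N := AzMod.finite_tower R A N
  have : Module.Projective R N := AzMod.projective_tower R A N
  exact LG.exists_split hR (fun m hm => BCMod.exists_pair_of_le m (h _))

end modules

section conj

variable {R : Type u} [CommRing R] {M : Type v} [AddCommGroup M] [Module R M]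
  {N : Type w} [AddCommGroup N] [Module R N]

theorem nonempty_algEquiv_of_range {A B C : Type*} [Ring A] [Algebra R A] [Ring B] [Algebra R B]
    [Ring C] [Algebra R C] (f : A →ₐ[R] C) (g : B →ₐ[R] C) (hf : Function.Injective f)
    (hg : Function.Injective g) (h1 : ∀ a, ∃ b, g b = f a) (h2 : ∀ b, ∃ a, f a = g b) :
    Nonempty (A ≃ₐ[R] B) := by
  choose φ hφ using h1
  refine ⟨AlgEquiv.ofBijective
    { toFun := φ
      map_one' := hg (by rw [hφ, map_one, map_one])
      map_mul' := fun x y => hg (by rw [hφ, map_mul, map_mul, hφ, hφ])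
      map_zero' := hg (by rw [hφ, map_zero, map_zero])
      map_add' := fun x y => hg (by rw [hφ, map_add, map_add, hφ, hφ])
      commutes' := fun r => hg (by rw [hφ, AlgHom.commutes, AlgHom.commutes]) } ⟨?_, ?_⟩⟩
  · intro x y hxy
    apply hf
    rw [← hφ, ← hφ]
    exact congrArg g hxy
  · intro b
    obtain ⟨a, ha⟩ := h2 b
    refine ⟨a, hg ?_⟩
    exact (hφ a).trans ha

theorem nonempty_algEquiv_of_conj {L L' A B : Type*} [Ring L] [Algebra R L] [Ring L'] [Algebra R L']
    [Ring A] [Algebra R A] [Ring B] [Algebra R B]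
    (αM : L →ₐ[R] Module.End R M) (αN : L' →ₐ[R] Module.End R N) (e : L ≃ₐ[R] L')
    (ψ : M ≃ₗ[R] N) (hψ : ∀ x y, ψ (αM x y) = αN (e x) (ψ y))
    (rM : A →ₐ[R] Module.End R M) (hrM : Function.Injective rM)
    (h1 : rM.range = Subalgebra.centralizer R (αM.range : Set (Module.End R M)))
    (rN : B →ₐ[R] Module.End R N) (hrN : Function.Injective rN)
    (h2 : rN.range = Subalgebra.centralizer R (αN.range : Set (Module.End R N))) :
    Nonempty (A ≃ₐ[R] B) := by
  let c : Module.End R M ≃ₐ[R] Module.End R N := ψ.conjAlgEquiv R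
  have hc : ∀ x, c (αM x) = αN (e x) := by
    intro x
    apply LinearMap.ext
    intro y
    obtain ⟨y, rfl⟩ := ψ.surjective y
    rw [← hψ]
    simp [c, LinearEquiv.conjAlgEquiv_apply]
  let f : A →ₐ[R] Module.End R N := c.toAlgHom.comp rM
  have hf : Function.Injective f := c.injective.comp hrM
  refine nonempty_algEquiv_of_range f rN hf hrN (fun a => ?_) (fun b => ?_)
  · have hb : f a ∈ rN.range := by
      rw [h2, Subalgebra.mem_centralizer_iff]
      rintro _ ⟨x, rfl⟩
      obtain ⟨x, rfl⟩ := e.surjective x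
      have h3 : rM a ∈ Subalgebra.centralizer R (αM.range : Set (Module.End R M)) := by
        rw [← h1]; exact ⟨a, rfl⟩
      have h4 := (Subalgebra.mem_centralizer_iff R).1 h3 _ ⟨x, rfl⟩
      have h5 := congrArg c h4
      rw [map_mul, map_mul] at h5
      have h6 : c (αM.toRingHom x) = αN (e x) := hc x
      rw [h6] at h5
      exact h5
    obtain ⟨b, hb⟩ := hb
    exact ⟨b, hb⟩
  · have ha : c.symm (rN b) ∈ rM.range := by
      rw [h1, Subalgebra.mem_centralizer_iff]
      rintro _ ⟨x, rfl⟩
      have h3 : rN b ∈ Subalgebra.centralizer R (αN.range : Set (Module.End R N)) := by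
        rw [← h2]; exact ⟨b, rfl⟩
      have h4 := (Subalgebra.mem_centralizer_iff R).1 h3 _ ⟨e x, rfl⟩
      apply c.injective
      rw [map_mul, map_mul, c.apply_symm_apply]
      have h6 : c (αM.toRingHom x) = αN (e x) := hc x
      rw [h6]
      exact h4
    obtain ⟨a, ha⟩ := ha
    refine ⟨a, ?_⟩
    have h7 : c (rM a) = c (c.symm (rN b)) := congrArg c ha
    rw [c.apply_symm_apply] at h7
    exact h7

theorem exists_equivariant (hR : LGRing.IsLGRing R) {L : Type w'} [Ring L] [Algebra R L]
    [IsAzumaya R L] [Module.Finite R M] [Module.Projective R M] [Module.Finite R N]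
    [Module.Projective R N]
    (h : ∀ p : PrimeSpectrum R, Module.rankAtStalk (R := R) M p = Module.rankAtStalk (R := R) N p)
    (αM : L →ₐ[R] Module.End R M) (αN : L →ₐ[R] Module.End R N) :
    ∃ ψ : M ≃ₗ[R] N, ∀ x y, ψ (αM x y) = αN x (ψ y) := by
  let m1 : Module L M := Module.compHom M αM.toRingHom
  let m2 : Module L N := Module.compHom N αN.toRingHom
  have t1 : IsScalarTower R L M := ⟨fun r x y => by
    change αM (r • x) y = r • αM x y
    rw [map_smul]; rfl⟩
  have t2 : IsScalarTower R L N := ⟨fun r x y => by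
    change αN (r • x) y = r • αN x y
    rw [map_smul]; rfl⟩
  have : Module.Finite L M := Module.Finite.of_restrictScalars_finite R _ _
  have : Module.Finite L N := Module.Finite.of_restrictScalars_finite R _ _
  have : Module.Projective L M := CentEnd.projective_of_base (R := R) _
  have : Module.Projective L N := CentEnd.projective_of_base (R := R) _
  obtain ⟨φ⟩ := nonempty_equiv_of_rank_eq hR (A := L) M N h
  exact ⟨φ.restrictScalars R, fun x y => φ.map_smul x y⟩

end conj

section algebras

variable {R : Type u} [CommRing R] (hR : LGRing.IsLGRing R)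
  (A : Type v) [Ring A] [Algebra R A] [IsAzumaya R A]
  (B : Type w) [Ring B] [Algebra R B] [IsAzumaya R B]
  (P : Type w') [AddCommGroup P] [Module R P] [Module.Finite R P] [Module.Projective R P]
  [FaithfulSMul R P]
  (Q : Type w'') [AddCommGroup Q] [Module R Q] [Module.Finite R Q] [Module.Projective R Q]
  [FaithfulSMul R Q]

include hR in
theorem nonempty_algEquiv
    (hAB : ∀ p : PrimeSpectrum R, Module.rankAtStalk (R := R) A p = Module.rankAtStalk (R := R) B p)
    (hPQ : ∀ p : PrimeSpectrum R, Module.rankAtStalk (R := R) P p = Module.rankAtStalk (R := R) Q p)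
    (e : A ⊗[R] Module.End R P ≃ₐ[R] B ⊗[R] Module.End R Q) : Nonempty (A ≃ₐ[R] B) := by
  have hEP : IsAzumaya R (Module.End R P) := AzOps.isAzumaya_end
  have hL : IsAzumaya R (A ⊗[R] Module.End R P) := AzOps.isAzumaya_tensor
  have hrank : ∀ p : PrimeSpectrum R, Module.rankAtStalk (R := R) (A ⊗[R] P) p =
      Module.rankAtStalk (R := R) (B ⊗[R] Q) p := fun p => by
    have h1 := congrFun (Module.rankAtStalk_tensorProduct (R := R) (M := A) P) p
    have h2 := congrFun (Module.rankAtStalk_tensorProduct (R := R) (M := B) Q) p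
    rw [h1, h2, Pi.mul_apply, Pi.mul_apply, hAB, hPQ]
  obtain ⟨ψ, hψ⟩ := exists_equivariant (M := A ⊗[R] P) (N := B ⊗[R] Q) hR
    (L := A ⊗[R] Module.End R P) hrank (CentEnd.act R A P) ((CentEnd.act R B Q).comp e.toAlgHom)
  obtain ⟨n, y, g, hg⟩ := AzData.exists_trace_one (R := R) (P := P)
  obtain ⟨n', y', g', hg'⟩ := AzData.exists_trace_one (R := R) (P := Q)
  obtain ⟨eAB⟩ := nonempty_algEquiv_of_conj (CentEnd.act R A P) (CentEnd.act R B Q) e ψ hψ
    (CentEnd.rho R A P) (CentEnd.rho_injective y g hg) (CentEnd.range_rho_eq (B := A) y g hg)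
    (CentEnd.rho R B Q) (CentEnd.rho_injective y' g' hg') (CentEnd.range_rho_eq (B := B) y' g' hg')
  exact ⟨AlgEquiv.unop eAB⟩

end algebras

end K444.LGAz
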