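import Groth.Agent.Brauer.K444.LGAz
import Mathlib.RingTheory.MatrixAlgebra
import Mathlib.LinearAlgebra.Matrix.ToLin

/-!
# Cancellation for Azumaya algebras over LG-rings
-/

set_option autoImplicit false
universe u v w w' w''
open scoped TensorProduct
open MulOpposite

namespace K444.LGMain

section indec

variable {R : Type u} [CommRing R] (hR : LGRing.IsLGRing R)
  {A : Type v} [Ring A] [Algebra R A] [IsAzumaya R A]

include hR in
theorem equiv_of_rank_le
    (M : Type w) [AddCommGroup M] [Module R M] [Module A M] [IsScalarTower R A M]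
    (N : Type w') [AddCommGroup N] [Module R N] [Module A N] [IsScalarTower R A N]
    [Module.Finite A M] [Module.Projective A M] [Module.Finite A N] [Module.Projective A N]
    [Nontrivial N] (hM : ∀ e : Module.End A M, IsIdempotentElem e → e = 0 ∨ e = 1)
    (h : ∀ p : PrimeSpectrum R, Module.rankAtStalk (R := R) N p ≤ Module.rankAtStalk (R := R) M p) :
    Nonempty (M ≃ₗ[A] N) := by
  obtain ⟨φ, ψ, hb⟩ := LGAz.exists_split_of_rank_le hR (A := A) M N h
  let θ : N ≃ₗ[A] N := LinearEquiv.ofBijective (φ ∘ₗ ψ) hb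
  have hθ : ∀ x, θ x = φ (ψ x) := fun x => rfl
  let e : Module.End A M := ψ ∘ₗ θ.symm.toLinearMap ∘ₗ φ
  have hφe : ∀ x, φ (e x) = φ x := by
    intro x
    change φ (ψ (θ.symm (φ x))) = φ x
    rw [← hθ, LinearEquiv.apply_symm_apply]
  have he : IsIdempotentElem e := by
    apply LinearMap.ext
    intro x
    change ψ (θ.symm (φ (e x))) = ψ (θ.symm (φ x))
    rw [hφe]
  rcases hM e he with h0 | h1
  · exfalso
    apply not_subsingleton N
    refine ⟨fun a b => ?_⟩
    have key : ∀ a : N, a = 0 := by
      intro a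
      obtain ⟨y, rfl⟩ := hb.2 a
      change φ (ψ y) = 0
      rw [← hφe, h0]
      simp
    rw [key a, key b]
  · refine ⟨LinearEquiv.ofBijective φ ⟨?_, Function.Surjective.of_comp (g := ψ) hb.2⟩⟩
    intro a b hab
    have h2 : e a = e b := by
      change ψ (θ.symm (φ a)) = ψ (θ.symm (φ b))
      rw [hab]
    rw [h1] at h2
    exact h2

include hR in
theorem indecomposable [ConnectedSpace (PrimeSpectrum R)]
    (P : Type w) (Q : Type w') [AddCommGroup P] [Module A P] [Module.Finite A P]
    [Module.Projective A P] [Nontrivial P]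
    [AddCommGroup Q] [Module A Q] [Module.Finite A Q] [Module.Projective A Q] [Nontrivial Q]
    (hP : ∀ e : Module.End A P, IsIdempotentElem e → e = 0 ∨ e = 1)
    (hQ : ∀ e : Module.End A Q, IsIdempotentElem e → e = 0 ∨ e = 1) : Nonempty (P ≃ₗ[A] Q) := by
  let m1 : Module R P := Module.compHom P (algebraMap R A)
  let m2 : Module R Q := Module.compHom Q (algebraMap R A)
  have t1 : IsScalarTower R A P := ⟨fun r a x => by
    change (r • a) • x = (algebraMap R A r) • (a • x)
    rw [Algebra.smul_def, mul_smul]⟩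
  have t2 : IsScalarTower R A Q := ⟨fun r a x => by
    change (r • a) • x = (algebraMap R A r) • (a • x)
    rw [Algebra.smul_def, mul_smul]⟩
  have : Module.Finite R P := AzMod.finite_tower R A P
  have : Module.Projective R P := AzMod.projective_tower R A P
  have : Module.Finite R Q := AzMod.finite_tower R A Q
  have : Module.Projective R Q := AzMod.projective_tower R A Q
  obtain ⟨p⟩ : Nonempty (PrimeSpectrum R) := inferInstance
  rcases le_total (Module.rankAtStalk (R := R) P p) (Module.rankAtStalk (R := R) Q p) with h | h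
  · obtain ⟨e⟩ := equiv_of_rank_le hR (A := A) Q P hQ (fun q => by
      rw [ConnRank.rank_const P q p, ConnRank.rank_const Q q p]; exact h)
    exact ⟨e.symm⟩
  · exact equiv_of_rank_le hR (A := A) P Q hP (fun q => by
      rw [ConnRank.rank_const P q p, ConnRank.rank_const Q q p]; exact h)

end indec

section cancel

variable {R : Type u} [CommRing R] (hR : LGRing.IsLGRing R)
  (A : Type v) [Ring A] [Algebra R A] [IsAzumaya R A]
  (B : Type w) [Ring B] [Algebra R B] [IsAzumaya R B]

theorem rank_tensor_end (P : Type w') [AddCommGroup P] [Module R P] [Module.Finite R P]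
    [Module.Projective R P] (p : PrimeSpectrum R) :
    Module.rankAtStalk (R := R) (A ⊗[R] Module.End R P) p = Module.rankAtStalk (R := R) A p *
      (Module.rankAtStalk (R := R) P p * Module.rankAtStalk (R := R) P p) := by
  have : Module.Projective R (Module.End R P) := CentEnd.projective_hom P P
  have : Module.Finite R (Module.End R P) := LG.finite_hom R R P P
  have h1 := congrFun (Module.rankAtStalk_tensorProduct (R := R) (M := A) (Module.End R P)) p
  rw [h1, Pi.mul_apply, ← CentEnd.rank_hom P P p]

variable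
  (P : Type w') [AddCommGroup P] [Module R P] [Module.Finite R P] [Module.Projective R P]
  [FaithfulSMul R P]
  (Q : Type w'') [AddCommGroup Q] [Module R Q] [Module.Finite R Q] [Module.Projective R Q]
  [FaithfulSMul R Q]

theorem rank_eq_of_equiv (e : A ⊗[R] Module.End R P ≃ₐ[R] B ⊗[R] Module.End R Q)
    (p : PrimeSpectrum R) :
    Module.rankAtStalk (R := R) A p *
      (Module.rankAtStalk (R := R) P p * Module.rankAtStalk (R := R) P p) =
    Module.rankAtStalk (R := R) B p *
      (Module.rankAtStalk (R := R) Q p * Module.rankAtStalk (R := R) Q p) := by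
  rw [← rank_tensor_end, ← rank_tensor_end]
  exact congrFun (Module.rankAtStalk_eq_of_equiv e.toLinearEquiv) p

include hR in
theorem algEquiv_of_rank_alg
    (hAB : ∀ p : PrimeSpectrum R, Module.rankAtStalk (R := R) A p = Module.rankAtStalk (R := R) B p)
    (e : A ⊗[R] Module.End R P ≃ₐ[R] B ⊗[R] Module.End R Q) : Nonempty (A ≃ₐ[R] B) := by
  refine LGAz.nonempty_algEquiv hR A B P Q hAB (fun p => ?_) e
  have h1 := rank_eq_of_equiv A B P Q e p
  rw [hAB p] at h1
  have h2 := CentEnd.rank_pos_of_faithful B p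
  exact Nat.mul_self_inj.1 (Nat.eq_of_mul_eq_mul_left h2 h1)

include hR in
theorem algEquiv_of_rank_mod
    (hPQ : ∀ p : PrimeSpectrum R, Module.rankAtStalk (R := R) P p = Module.rankAtStalk (R := R) Q p)
    (e : A ⊗[R] Module.End R P ≃ₐ[R] B ⊗[R] Module.End R Q) : Nonempty (A ≃ₐ[R] B) := by
  refine LGAz.nonempty_algEquiv hR A B P Q (fun p => ?_) hPQ e
  have h1 := rank_eq_of_equiv A B P Q e p
  rw [hPQ p] at h1
  have h2 := CentEnd.rank_pos_of_faithful Q p
  exact Nat.eq_of_mul_eq_mul_right (Nat.mul_pos h2 h2) h1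

include hR in
theorem cancel_matrix (n : ℕ) (hn : 0 < n)
    (e : Matrix (Fin n) (Fin n) A ≃ₐ[R] Matrix (Fin n) (Fin n) B) : Nonempty (A ≃ₐ[R] B) := by
  have : Nonempty (Fin n) := ⟨⟨0, hn⟩⟩
  have : FaithfulSMul R (Fin n → R) := inferInstance
  let t : Module.End R (Fin n → R) ≃ₐ[R] Matrix (Fin n) (Fin n) R :=
    (Matrix.toLinAlgEquiv' (R := R) (n := Fin n)).symm
  refine algEquiv_of_rank_mod hR A B (Fin n → R) (Fin n → R) (fun p => rfl) ?_
  exact ((Algebra.TensorProduct.congr AlgEquiv.refl t).trans
    (matrixEquivTensor (Fin n) R A).symm).trans (e.trans ((matrixEquivTensor (Fin n) R B).trans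
      (Algebra.TensorProduct.congr AlgEquiv.refl t.symm)))

include hR in
theorem cancel_tensor (C : Type w') [Ring C] [Algebra R C] [IsAzumaya R C]
    (e : A ⊗[R] C ≃ₐ[R] B ⊗[R] C) : Nonempty (A ≃ₐ[R] B) := by
  refine algEquiv_of_rank_mod hR A B C C (fun p => rfl) ?_
  let t := AzOp.tensorOpEquivEnd R C
  exact ((Algebra.TensorProduct.congr AlgEquiv.refl t.symm).trans
    (Algebra.TensorProduct.assoc R R R A C Cᵐᵒᵖ).symm).trans
    ((Algebra.TensorProduct.congr e AlgEquiv.refl).trans
    ((Algebra.TensorProduct.assoc R R R B C Cᵐᵒᵖ).trans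
      (Algebra.TensorProduct.congr AlgEquiv.refl t)))

end cancel

end K444.LGMain
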