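import Groth.Agent.NonAbH1.K554.FibAct

/-!
# Relative actions

An action of `G` on `X` over `S` for which `π : X ⟶ S'` (over `f : S' ⟶ S`) is invariant gives an action of the base
change of `G` on `X` over `S'`.
-/

set_option autoImplicit false
universe u

open CategoryTheory CategoryTheory.Limits MonoidalCategory CartesianMonoidalCategory MonObj GrpObj AlgebraicGeometry
open Groth.Agent.Books.BorelOrb K554.Fpqc K554.BcPt

namespace K444.RelAct

section

variable {S : Scheme.{u}} {G X : Over S} [GrpObj G]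

/-- pseudo-torsors in terms of points with values in a class of schemes. -/
theorem isPseudoTorsorSch_of (a : AlgGrp.Action G X) (P : Over S → Prop) (h1 : P (G ⊗ X)) (h2 : P (X ⊗ X))
    (h : ∀ (Y : Over S), P Y → ∀ (x x' : Y ⟶ X), ∃! g : Y ⟶ G, sm a g x' = x) : NonAbH1.IsPseudoTorsorSch a := by
  obtain ⟨g, hg, hu⟩ := h (X ⊗ X) h2 (fst X X) (snd X X)
  refine ⟨⟨lift g (snd X X), ?_, ?_⟩⟩
  · apply CartesianMonoidalCategory.hom_ext
    · rw [Category.assoc, lift_fst, Category.id_comp]
      obtain ⟨g', hg', hu'⟩ := h (G ⊗ X) h1 a.act (snd G X)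
      rw [hu' (lift a.act (snd G X) ≫ g), hu' (fst G X)]
      · change sm a (fst G X) (snd G X) = a.act
        rw [sm, lift_fst_snd, Category.id_comp]
      · change sm a (lift a.act (snd G X) ≫ g) (snd G X) = a.act
        have h1 : sm a (lift a.act (snd G X) ≫ g) (snd G X) =
            lift a.act (snd G X) ≫ sm a g (snd X X) := by
          rw [comp_sm, lift_snd]
        rw [h1]
        have hg' : sm a g (snd X X) = fst X X := hg
        rw [hg', lift_fst]
    · rw [Category.assoc, lift_snd, Category.id_comp, lift_snd]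
  · apply CartesianMonoidalCategory.hom_ext
    · rw [Category.assoc, lift_fst, Category.id_comp]
      exact hg
    · rw [Category.assoc, lift_snd, Category.id_comp, lift_snd]

end

section

variable {S S' : Scheme.{u}} (f : S' ⟶ S) {G X : Over S} [GrpObj G] (a : AlgGrp.Action G X) (π : X.left ⟶ S')
  (hπ : π ≫ f = X.hom) (hinv : a.act.left ≫ π = (snd G X).left ≫ π)

include hinv in
theorem sm_left_comp {T : Over S} (g : T ⟶ G) (x : T ⟶ X) : (sm a g x).left ≫ π = x.left ≫ π := by
  rw [sm, Over.comp_left, Category.assoc, hinv, ← Category.assoc, ← Over.comp_left, lift_snd]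

/-- The point over `S` of a point over `S'`. -/
def dn {Y : Over S'} (y : Y ⟶ Over.mk π) : (Over.map f).obj Y ⟶ X :=
  Over.homMk y.left (by
    rw [← hπ, ← Category.assoc]
    exact congrArg (· ≫ f) (Over.w y))

@[simp] theorem dn_left {Y : Over S'} (y : Y ⟶ Over.mk π) : (dn f π hπ y).left = y.left := rfl

theorem dn_injective {Y : Over S'} {y y' : Y ⟶ Over.mk π} (h : dn f π hπ y = dn f π hπ y') : y = y' := by
  ext1
  exact congrArg (fun z => z.left) h

theorem comp_dn {Y Y' : Over S'} (t : Y' ⟶ Y) (y : Y ⟶ Over.mk π) :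
    dn f π hπ (t ≫ y) = (Over.map f).map t ≫ dn f π hπ y := rfl

/-- The action on points. -/
noncomputable def pact {Y : Over S'} (g : Y ⟶ Red.bc f G) (y : Y ⟶ Over.mk π) : Y ⟶ Over.mk π :=
  Over.homMk (sm a (un f g) (dn f π hπ y)).left (by
    change _ ≫ π = _
    rw [sm_left_comp a π hinv]
    exact Over.w y)

theorem dn_pact {Y : Over S'} (g : Y ⟶ Red.bc f G) (y : Y ⟶ Over.mk π) :
    dn f π hπ (pact f a π hπ hinv g y) = sm a (un f g) (dn f π hπ y) := rfl

theorem comp_pact {Y Y' : Over S'} (t : Y' ⟶ Y) (g : Y ⟶ Red.bc f G) (y : Y ⟶ Over.mk π) :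
    t ≫ pact f a π hπ hinv g y = pact f a π hπ hinv (t ≫ g) (t ≫ y) := by
  apply dn_injective f π hπ
  rw [comp_dn, dn_pact, dn_pact, comp_sm, comp_dn, un_comp]

/-- The action of the base change. -/
noncomputable def relAct : AlgGrp.Action (Red.bc f G) (Over.mk π) :=
  K554.FibAct.mkAction (pact f a π hπ hinv (fst _ _) (snd _ _))
    (by
      intro T x
      rw [comp_pact, lift_fst, lift_snd]
      apply dn_injective f π hπ
      rw [dn_pact, un_one, one_sm])
    (by
      intro T g h x
      simp only [comp_pact, lift_fst, lift_snd]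
      apply dn_injective f π hπ
      rw [dn_pact, dn_pact, dn_pact, un_mul, mul_sm])

theorem sm_relAct {Y : Over S'} (g : Y ⟶ Red.bc f G) (y : Y ⟶ Over.mk π) :
    sm (relAct f a π hπ hinv) g y = pact f a π hπ hinv g y := by
  rw [relAct, K554.FibAct.sm_mkAction, comp_pact, lift_fst, lift_snd]

theorem dn_sm_relAct {Y : Over S'} (g : Y ⟶ Red.bc f G) (y : Y ⟶ Over.mk π) :
    dn f π hπ (sm (relAct f a π hπ hinv) g y) = sm a (un f g) (dn f π hπ y) := by
  rw [sm_relAct, dn_pact]

/-- The relative action is a pseudo-torsor as soon as the fibres over a class of test schemes are. -/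
theorem isPseudoTorsorSch_relAct (P : Over S' → Prop) (h1 : P (Red.bc f G ⊗ Over.mk π))
    (h2 : P (Over.mk π ⊗ Over.mk π))
    (h : ∀ (Y : Over S'), P Y → ∀ (x x' : Y ⟶ Over.mk π), ∃! g : (Over.map f).obj Y ⟶ G,
      sm a g (dn f π hπ x') = dn f π hπ x) : NonAbH1.IsPseudoTorsorSch (relAct f a π hπ hinv) := by
  refine isPseudoTorsorSch_of _ P h1 h2 fun Y hY x x' => ?_
  obtain ⟨g, hg, hu⟩ := h Y hY x x'
  refine ⟨mk f g, ?_, fun g' hg' => ?_⟩
  · apply dn_injective f π hπ
    rw [dn_sm_relAct, un_mk]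
    exact hg
  · have h3 := hu (un f g') (by
      change sm a (un f g') (dn f π hπ x') = dn f π hπ x
      rw [← dn_sm_relAct f a π hπ hinv]
      exact congrArg _ hg')
    rw [← h3, mk_un]

end

end K444.RelAct
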