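import Groth.Agent.Brauer.K444.TwDesc
import Groth.Agent.Brauer.K444.Compos
import Mathlib.FieldTheory.Normal.Basic
import Mathlib.FieldTheory.IntermediateField.Adjoin.Algebra

/-!
# Splitting over an extension, given a small stable field
-/

set_option autoImplicit false
universe u v w
open scoped TensorProduct MatrixGroups

namespace K444.SplitCore

/-- Restriction of automorphisms to a normal extension. -/
theorem exists_restrict {E N M M' : Type*} [Field E] [Field N] [Field M] [Field M'] [Algebra E N] [Algebra E M]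
    [Algebra E M'] [Algebra M M'] [IsScalarTower E M M'] [Normal E N] (j : N →ₐ[E] M') :
    ∃ r : (M' ≃ₐ[M] M') →* (N ≃ₐ[E] N), ∀ g x, j (r g x) = g (j x) := by
  let _ : Algebra N M' := j.toAlgebra
  have : IsScalarTower E N M' := IsScalarTower.of_algHom j
  exact ⟨(AlgEquiv.restrictNormalHom N).comp (AlgEquiv.restrictScalarsHom E), fun g x =>
    AlgEquiv.restrictNormal_commutes (g.restrictScalars E) N x⟩

section

variable {M M' L₀ : Type u} [Field M] [Field M'] [Field L₀] [Algebra M M'] [Algebra L₀ M] [Algebra L₀ M']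
  [IsScalarTower L₀ M M']

theorem mem_adjoin_of_stable (T : Set M') (hT : ∀ (g : M' ≃ₐ[M] M'), ∀ t ∈ T, g t ∈ T) (g : M' ≃ₐ[M] M') (x : M')
    (hx : x ∈ IntermediateField.adjoin L₀ T) : g x ∈ IntermediateField.adjoin L₀ T := by
  have h1 : IntermediateField.adjoin L₀ T ≤
      (IntermediateField.adjoin L₀ T).comap ((g.restrictScalars L₀ : M' ≃ₐ[L₀] M') : M' →ₐ[L₀] M') := by
    rw [IntermediateField.adjoin_le_iff]
    intro t ht
    exact IntermediateField.subset_adjoin L₀ T (hT g t ht)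
  exact h1 hx

/-- The action on a stable subfield. -/
@[reducible] def act (P : IntermediateField L₀ M') (hP : ∀ (g : M' ≃ₐ[M] M') (x : M'), x ∈ P → g x ∈ P) :
    MulSemiringAction (M' ≃ₐ[M] M') P where
  smul g x := ⟨g x, hP g x x.2⟩
  one_smul x := rfl
  mul_smul g h x := rfl
  smul_zero g := Subtype.ext (map_zero g)
  smul_add g x y := Subtype.ext (map_add g (x : M') (y : M'))
  smul_one g := Subtype.ext (map_one g)
  smul_mul g x y := Subtype.ext (map_mul g (x : M') (y : M'))

variable [FiniteDimensional M M']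

theorem exists_coboundary_small (T : Set M') (hTalg : ∀ t ∈ T, IsAlgebraic L₀ t)
    (hT : ∀ (g : M' ≃ₐ[M] M'), ∀ t ∈ T, g t ∈ T)
    (hTf : ∀ g : M' ≃ₐ[M] M', (∀ t ∈ T, g t = t) → g = 1)
    (hBr : ∀ (F : Type u) [Field F] [Algebra L₀ F] [Algebra.IsAlgebraic L₀ F] (D : Type u) [DivisionRing D]
      [Algebra F D] [Algebra.IsCentral F D] [FiniteDimensional F D], Module.finrank F D = 1)
    (c : (M' ≃ₐ[M] M') → (M' ≃ₐ[M] M') → L₀) (hc0 : ∀ g h, c g h ≠ 0)
    (hc : ∀ g h k, c h k * c g (h * k) = c (g * h) k * c g h) :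
    ∃ l : (M' ≃ₐ[M] M') → M', (∀ g, l g ≠ 0) ∧
      ∀ g h, algebraMap L₀ M' (c g h) * l (g * h) = g (l h) * l g := by
  let P := IntermediateField.adjoin L₀ T
  have hP := mem_adjoin_of_stable (L₀ := L₀) T hT
  have hPalg : Algebra.IsAlgebraic L₀ P := IntermediateField.isAlgebraic_adjoin fun t ht => (hTalg t ht).isIntegral
  let _ : MulSemiringAction (M' ≃ₐ[M] M') P := act P hP
  have hsm : ∀ (g : M' ≃ₐ[M] M') (x : P), ((g • x : P) : M') = g x := fun g x => rfl
  have : FaithfulSMul (M' ≃ₐ[M] M') P := ⟨fun {g h} hgh => by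
    have h1 : h⁻¹ * g = 1 := hTf _ fun t ht => by
      have h2 := congrArg (Subtype.val) (hgh ⟨t, IntermediateField.subset_adjoin L₀ T ht⟩)
      rw [hsm, hsm] at h2
      rw [AlgEquiv.mul_apply, h2]
      exact AlgEquiv.symm_apply_apply h t
    rwa [inv_mul_eq_one, eq_comm] at h1⟩
  let F := FixedPoints.subfield (M' ≃ₐ[M] M') P
  let i : L₀ →+* F := (algebraMap L₀ P).codRestrict F (fun x => by
    intro g
    apply Subtype.ext
    rw [hsm]
    change g (algebraMap L₀ M' x) = algebraMap L₀ M' x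
    rw [IsScalarTower.algebraMap_apply L₀ M M' x]
    exact g.commutes _)
  let _ : Algebra L₀ F := i.toAlgebra
  have : IsScalarTower L₀ F P := IsScalarTower.of_algebraMap_eq fun x => rfl
  have : Algebra.IsAlgebraic L₀ F := ⟨fun x => by
    have h1 := hPalg.isAlgebraic (x : P)
    exact (isAlgebraic_algHom_iff (IsScalarTower.toAlgHom L₀ F P) (Subtype.val_injective)).mp h1⟩
  obtain ⟨l, hl0, hl⟩ := TwDesc.exists_coboundary (G := M' ≃ₐ[M] M') (P := P) (fun D _ _ _ _ => hBr F D)
    (fun g h => algebraMap L₀ P (c g h)) (fun g h => (map_ne_zero _).mpr (hc0 g h)) (fun g h k => by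
      have h1 : g • (algebraMap L₀ P (c h k)) = algebraMap L₀ P (c h k) := (i (c h k)).2 g
      rw [h1, ← map_mul, ← map_mul, hc])
  refine ⟨fun g => l g, fun g h0 => hl0 g (Subtype.ext h0), fun g h => ?_⟩
  exact congrArg Subtype.val (hl g h)

end

end K444.SplitCore
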