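import Groth.Agent.Brauer.K444.SplitCore

/-!
# Splitting over an extension, given a small stable field: the main statement
-/

set_option autoImplicit false
universe u v w
open scoped TensorProduct MatrixGroups

namespace K444.SplitMain

theorem coc_of {F P : Type u} [Field F] [Field P] [Algebra F P] {n : ℕ} [NeZero n]
    {Pm : (P ≃ₐ[F] P) → GL (Fin n) P} {c : (P ≃ₐ[F] P) → (P ≃ₐ[F] P) → P}
    (hP : ∀ g h, (Pm g : Matrix (Fin n) (Fin n) P) * (Pm h : Matrix (Fin n) (Fin n) P).map g =
      c g h • (Pm (g * h) : Matrix (Fin n) (Fin n) P)) (g h k : P ≃ₐ[F] P) :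
    g (c h k) * c g (h * k) = c (g * h) k * c g h := by
  have e2 : (Pm k : Matrix (Fin n) (Fin n) P).map (g * h) = ((Pm k : Matrix (Fin n) (Fin n) P).map h).map g := by
    ext i j; rfl
  have e3 : ∀ (r : P) (X : Matrix (Fin n) (Fin n) P), (r • X).map g = g r • X.map g := by
    intro r X; ext i j; simp
  have h1 : (Pm g : Matrix (Fin n) (Fin n) P) * (Pm h : Matrix (Fin n) (Fin n) P).map g *
      (Pm k : Matrix (Fin n) (Fin n) P).map (g * h) = (c g h * c (g * h) k) • (Pm (g * h * k) : Matrix (Fin n) (Fin n) P) := by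
    rw [hP, Matrix.smul_mul, hP, smul_smul]
  have h2 : (Pm g : Matrix (Fin n) (Fin n) P) * (Pm h : Matrix (Fin n) (Fin n) P).map g *
      (Pm k : Matrix (Fin n) (Fin n) P).map (g * h) = (g (c h k) * c g (h * k)) • (Pm (g * h * k) : Matrix (Fin n) (Fin n) P) := by
    rw [e2, mul_assoc, ← TwCoc.map_mul', hP, e3, Matrix.mul_smul, hP, smul_smul, mul_assoc g h k]
  have h3 := h1.symm.trans h2
  have h4 := congrArg (fun Z => Z * (((Pm (g * h * k))⁻¹ : GL (Fin n) P) : Matrix (Fin n) (Fin n) P)) h3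
  simp only [Matrix.smul_mul, Units.mul_inv] at h4
  have h5 := congrFun (congrFun h4 0) 0
  simp only [Matrix.smul_apply, Matrix.one_apply_eq, smul_eq_mul, mul_one] at h5
  rw [← h5, mul_comm]

variable {k E N M L₀ : Type u} [Field k] [Field E] [Field N] [Field M] [Field L₀]
  [Algebra k E] [Algebra k N] [Algebra E N] [IsScalarTower k E N] [FiniteDimensional E N] [IsGalois E N]
  [Algebra E M] [Algebra L₀ M] [Algebra k L₀] [Algebra k M] [IsScalarTower k E M] [IsScalarTower k L₀ M]
  {M' : Type u} [Field M'] [Algebra M M'] [Algebra E M'] [Algebra L₀ M'] [IsScalarTower E M M'] [IsScalarTower L₀ M M']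
  [FiniteDimensional M M'] [IsGalois M M']
  {D : Type u} [Ring D] [Algebra E D] [Algebra.IsCentral E D] [IsSimpleRing D] [FiniteDimensional E D]
  {d : ℕ} [NeZero d]

omit [FiniteDimensional E N] in
theorem splits (hd : Module.finrank E D = d * d) (f : D →ₐ[E] Matrix (Fin d) (Fin d) N)
    (C : (N ≃ₐ[E] N) → GL (Fin d) N)
    (hC1 : ∀ g x, (C g : Matrix (Fin d) (Fin d) N) * (f x).map g = f x * C g)
    (c : (N ≃ₐ[E] N) → (N ≃ₐ[E] N) → k)
    (hC2 : ∀ g h, (C g : Matrix (Fin d) (Fin d) N) * (C h : Matrix (Fin d) (Fin d) N).map g =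
      algebraMap k N (c g h) • (C (g * h) : Matrix (Fin d) (Fin d) N))
    (j : N →ₐ[E] M') (T : Set M') (hTalg : ∀ t ∈ T, IsAlgebraic L₀ t)
    (hT : ∀ (g : M' ≃ₐ[M] M'), ∀ t ∈ T, g t ∈ T)
    (hTf : ∀ g : M' ≃ₐ[M] M', (∀ t ∈ T, g t = t) → g = 1)
    (hBr : ∀ (F : Type u) [Field F] [Algebra L₀ F] [Algebra.IsAlgebraic L₀ F] (D : Type u) [DivisionRing D]
      [Algebra F D] [Algebra.IsCentral F D] [FiniteDimensional F D], Module.finrank F D = 1) :
    Curves.Splits E D M := by
  obtain ⟨r, hr⟩ := SplitCore.exists_restrict (M := M) j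
  have hj : Function.Injective j := (j : N →+* M').injective
  -- the cocycle in `k`
  have hc0 : ∀ g h, c g h ≠ 0 := fun g h h0 => TwCoc.c_ne_zero hC2 g h (by rw [h0, map_zero])
  have hcoc : ∀ g h k', c h k' * c g (h * k') = c (g * h) k' * c g h := by
    intro g h k'
    have h1 := coc_of hC2 g h k'
    rw [IsScalarTower.algebraMap_apply k E N (c h k'), AlgEquiv.commutes, ← IsScalarTower.algebraMap_apply k E N,
      ← map_mul, ← map_mul] at h1
    exact (algebraMap k N).injective h1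
  obtain ⟨l, hl0, hl⟩ := SplitCore.exists_coboundary_small (M := M) T hTalg hT hTf hBr
    (fun g h => algebraMap k L₀ (c (r g) (r h))) (fun g h => (map_ne_zero _).mpr (hc0 _ _)) (fun g h k' => by
      rw [← map_mul, ← map_mul, map_mul r, map_mul r, hcoc])
  have hkM : ∀ x : k, algebraMap L₀ M' (algebraMap k L₀ x) = j (algebraMap k N x) := by
    intro x
    rw [IsScalarTower.algebraMap_apply L₀ M M', ← IsScalarTower.algebraMap_apply k L₀ M,
      IsScalarTower.algebraMap_apply k E M, ← IsScalarTower.algebraMap_apply E M M',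
      IsScalarTower.algebraMap_apply k E N, AlgHom.commutes]
  let jM : Matrix (Fin d) (Fin d) N →ₐ[E] Matrix (Fin d) (Fin d) M' := j.mapMatrix
  have hjM : ∀ (g : M' ≃ₐ[M] M') (X : Matrix (Fin d) (Fin d) N), (jM X).map g = jM (X.map (r g)) := by
    intro g X
    ext a b
    exact (hr g _).symm
  have hjs : ∀ (x : N) (X : Matrix (Fin d) (Fin d) N), jM (x • X) = j x • jM X := by
    intro x X
    ext a b
    exact map_mul j _ _
  have h6 : Nonempty (D →ₐ[E] Matrix (Fin d) (Fin d) M) := by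
    refine TwDesc.exists_algHom (M' := M') (jM.comp f) (fun g => Units.map (jM : _ →* _) (C (r g))) ?_
      (fun g h => algebraMap L₀ M' (algebraMap k L₀ (c (r g) (r h)))) ?_ l hl0 hl
    · intro g x
      change jM (C (r g)) * (jM (f x)).map g = jM (f x) * jM (C (r g))
      rw [hjM, ← map_mul, ← map_mul, hC1]
    · intro g h
      change jM (C (r g)) * (jM (C (r h))).map g = _ • jM (C (r (g * h)))
      rw [hjM, ← map_mul, hC2, hjs, hkM, map_mul r]
  obtain ⟨φ⟩ := h6
  exact Groth.Agent.CurvesA.SepSplit.splits_of_algHom E M D d (NeZero.ne d) hd φ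

end K444.SplitMain
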