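import Groth.Agent.CurvesA.SepSplit2
import Groth.Agent.CurvesA.SkolemNoether
import Groth.Agent.Brauer.K440.Cyc1
import Groth.Agent.GalCoh.K447.Descent
import Mathlib.LinearAlgebra.Matrix.GeneralLinearGroup.Defs

/-!
# Semilinear matrices up to scalars
-/

set_option autoImplicit false
universe u v w
open scoped TensorProduct MatrixGroups

namespace K444.TwCoc

section SN

variable {E : Type*} [Field E] {N : Type*} [Field N] [Algebra E N]
  {D : Type*} [Ring D] [Algebra E D] [Algebra.IsCentral E D] [IsSimpleRing D] [FiniteDimensional E D]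
  {n : Type*} [Fintype n] [DecidableEq n] [Nonempty n]

/-- Skolem–Noether for two homomorphisms into a matrix algebra. -/
theorem exists_conj (f g : D →ₐ[E] Matrix n n N) :
    ∃ C : GL n N, ∀ x, (C : Matrix n n N) * g x = f x * C := by
  have := Groth.Agent.CurvesA.SepSplit.isSimpleRing_baseChange E N D
  obtain ⟨C, hC⟩ := Groth.Agent.CurvesA.SkolemNoether.skolemNoether N (Matrix n n N) (N ⊗[E] D)
    (AlgHom.liftEquiv E N D (Matrix n n N) f) (AlgHom.liftEquiv E N D (Matrix n n N) g)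
  refine ⟨C, fun x => ?_⟩
  have h := hC (1 ⊗ₜ x)
  rw [AlgHom.liftEquiv_tmul, AlgHom.liftEquiv_tmul, one_smul, one_smul] at h
  rw [h, mul_assoc, Units.inv_mul, mul_one]

theorem liftEquiv_bijective (f : D →ₐ[E] Matrix n n N)
    (hdim : Module.finrank E D = Fintype.card n * Fintype.card n) :
    Function.Bijective (AlgHom.liftEquiv E N D (Matrix n n N) f) := by
  have := Groth.Agent.CurvesA.SepSplit.isSimpleRing_baseChange E N D
  have hinj : Function.Injective (AlgHom.liftEquiv E N D (Matrix n n N) f) :=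
    (AlgHom.liftEquiv E N D (Matrix n n N) f : N ⊗[E] D →+* Matrix n n N).injective
  have hfr : Module.finrank N (N ⊗[E] D) = Module.finrank N (Matrix n n N) := by
    rw [Module.finrank_baseChange, hdim]
    simp [Module.finrank_matrix]
  exact ⟨hinj, (LinearMap.injective_iff_surjective_of_finrank_eq_finrank
    (f := (AlgHom.liftEquiv E N D (Matrix n n N) f).toLinearMap) hfr).mp hinj⟩

/-- The commutant of the image is the centre. -/
theorem exists_scalar (f : D →ₐ[E] Matrix n n N)
    (hdim : Module.finrank E D = Fintype.card n * Fintype.card n) (X : Matrix n n N)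
    (hX : ∀ x, X * f x = f x * X) : ∃ c : N, X = c • 1 := by
  have h1 : X ∈ Subalgebra.center N (Matrix n n N) := by
    rw [Subalgebra.mem_center_iff]
    intro Y
    obtain ⟨y, rfl⟩ := (liftEquiv_bijective f hdim).2 Y
    induction y using TensorProduct.induction_on with
    | zero => rw [map_zero, zero_mul, mul_zero]
    | add y z hy hz => rw [map_add, add_mul, mul_add, hy, hz]
    | tmul a b => rw [AlgHom.liftEquiv_tmul, smul_mul_assoc, mul_smul_comm, hX]
  have h2 := Algebra.IsCentral.out (K := N) (D := Matrix n n N) h1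
  rw [Algebra.mem_bot] at h2
  obtain ⟨c, hc⟩ := h2
  exact ⟨c, by rw [← hc, Algebra.algebraMap_eq_smul_one]⟩

end SN

section Tw

variable {F P : Type u} [Field F] [Field P] [Algebra F P]
variable {n : ℕ}

/-- The twisted conjugation. -/
def tw (Pm : (P ≃ₐ[F] P) → GL (Fin n) P) (g : P ≃ₐ[F] P) (X : Matrix (Fin n) (Fin n) P) :
    Matrix (Fin n) (Fin n) P :=
  (Pm g : Matrix (Fin n) (Fin n) P) * X.map g * ((Pm g)⁻¹ : GL (Fin n) P)

theorem map_mul' (g : P ≃ₐ[F] P) (X Y : Matrix (Fin n) (Fin n) P) : (X * Y).map g = X.map g * Y.map g :=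
  Matrix.map_mul (f := (g : P →+* P))

theorem map_one' (g : P ≃ₐ[F] P) : (1 : Matrix (Fin n) (Fin n) P).map g = 1 :=
  Matrix.map_one g (map_zero g) (map_one g)

theorem tw_mul (Pm : (P ≃ₐ[F] P) → GL (Fin n) P) (g : P ≃ₐ[F] P) (X Y : Matrix (Fin n) (Fin n) P) :
    tw Pm g (X * Y) = tw Pm g X * tw Pm g Y := by
  have h : (((Pm g)⁻¹ : GL (Fin n) P) : Matrix (Fin n) (Fin n) P) * (Pm g : Matrix (Fin n) (Fin n) P) = 1 :=
    Units.inv_mul _
  simp only [tw, map_mul', mul_assoc]
  rw [← mul_assoc (((Pm g)⁻¹ : GL (Fin n) P) : Matrix (Fin n) (Fin n) P), h, one_mul]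

theorem tw_one' (Pm : (P ≃ₐ[F] P) → GL (Fin n) P) (g : P ≃ₐ[F] P) : tw Pm g 1 = 1 := by
  rw [tw, map_one', mul_one]
  exact Units.mul_inv _

theorem tw_add (Pm : (P ≃ₐ[F] P) → GL (Fin n) P) (g : P ≃ₐ[F] P) (X Y : Matrix (Fin n) (Fin n) P) :
    tw Pm g (X + Y) = tw Pm g X + tw Pm g Y := by
  have : (X + Y).map g = X.map g + Y.map g := Matrix.map_add g (map_add g) X Y
  rw [tw, this, mul_add, add_mul]; rfl

theorem tw_smul (Pm : (P ≃ₐ[F] P) → GL (Fin n) P) (g : P ≃ₐ[F] P) (r : P) (X : Matrix (Fin n) (Fin n) P) :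
    tw Pm g (r • X) = g r • tw Pm g X := by
  have : (r • X).map g = g r • X.map g := by ext i j; simp
  rw [tw, this, Matrix.mul_smul, Matrix.smul_mul]; rfl

theorem tw_injective (Pm : (P ≃ₐ[F] P) → GL (Fin n) P) (g : P ≃ₐ[F] P) : Function.Injective (tw Pm g) := by
  intro X Y h
  have h1 := congrArg (fun Z => ((Pm g)⁻¹ : GL (Fin n) P) * (Z * (Pm g : Matrix (Fin n) (Fin n) P))) h
  simp only [tw, mul_assoc] at h1
  rw [Units.inv_mul] at h1
  simp only [mul_one, ← mul_assoc] at h1
  rw [Units.inv_mul, one_mul, one_mul] at h1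
  ext i j
  exact g.injective (congrFun (congrFun h1 i) j)

variable {Pm : (P ≃ₐ[F] P) → GL (Fin n) P} {c : (P ≃ₐ[F] P) → (P ≃ₐ[F] P) → P}
  (hP : ∀ g h, (Pm g : Matrix (Fin n) (Fin n) P) * (Pm h : Matrix (Fin n) (Fin n) P).map g =
    c g h • (Pm (g * h) : Matrix (Fin n) (Fin n) P))

section

variable [NeZero n]

include hP in
theorem c_ne_zero (g h : P ≃ₐ[F] P) : c g h ≠ 0 := by
  intro h0
  have h1 := hP g h
  rw [h0, zero_smul] at h1
  have h2 : (((Pm g)⁻¹ : GL (Fin n) P) : Matrix (Fin n) (Fin n) P) *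
      ((Pm g : Matrix (Fin n) (Fin n) P) * (Pm h : Matrix (Fin n) (Fin n) P).map g *
      (((Pm h)⁻¹ : GL (Fin n) P) : Matrix (Fin n) (Fin n) P).map g) = 0 := by
    rw [h1, zero_mul, mul_zero]
  rw [mul_assoc, ← map_mul', Units.mul_inv, map_one', mul_one, Units.inv_mul] at h2
  exact one_ne_zero h2

include hP in
theorem tw_comp (g h : P ≃ₐ[F] P) (X : Matrix (Fin n) (Fin n) P) : tw Pm (g * h) X = tw Pm g (tw Pm h X) := by
  have hc := c_ne_zero hP g h
  have h3 : ((Pm (g * h) : Matrix (Fin n) (Fin n) P)) = (c g h)⁻¹ • ((Pm g : Matrix (Fin n) (Fin n) P) *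
      (Pm h : Matrix (Fin n) (Fin n) P).map g) := by
    rw [hP, smul_smul, inv_mul_cancel₀ hc, one_smul]
  have h4 : tw Pm (g * h) X * (Pm (g * h) : Matrix (Fin n) (Fin n) P) =
      tw Pm g (tw Pm h X) * (Pm (g * h) : Matrix (Fin n) (Fin n) P) := by
    have e1 : tw Pm (g * h) X * (Pm (g * h) : Matrix (Fin n) (Fin n) P) =
        (Pm (g * h) : Matrix (Fin n) (Fin n) P) * X.map (g * h) := by
      rw [tw, mul_assoc, Units.inv_mul, mul_one]
    rw [e1, h3, Matrix.smul_mul, Matrix.mul_smul]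
    congr 1
    have e2 : X.map (g * h) = (X.map h).map g := by
      ext i j; rfl
    rw [tw, tw, e2, map_mul', map_mul']
    have e3 : (((Pm h)⁻¹ : GL (Fin n) P) : Matrix (Fin n) (Fin n) P).map g *
        (Pm h : Matrix (Fin n) (Fin n) P).map g = 1 := by
      rw [← map_mul', Units.inv_mul, map_one']
    have e4 : (((Pm g)⁻¹ : GL (Fin n) P) : Matrix (Fin n) (Fin n) P) * (Pm g : Matrix (Fin n) (Fin n) P) = 1 :=
      Units.inv_mul _
    calc _ = (Pm g : Matrix (Fin n) (Fin n) P) * ((Pm h : Matrix (Fin n) (Fin n) P).map g * (X.map h).map g) := by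
            rw [mul_assoc]
      _ = (Pm g : Matrix (Fin n) (Fin n) P) * ((Pm h : Matrix (Fin n) (Fin n) P).map g * (X.map h).map g) *
            ((((Pm h)⁻¹ : GL (Fin n) P) : Matrix (Fin n) (Fin n) P).map g *
        (Pm h : Matrix (Fin n) (Fin n) P).map g) := by rw [e3, mul_one]
      _ = (Pm g : Matrix (Fin n) (Fin n) P) * ((Pm h : Matrix (Fin n) (Fin n) P).map g * (X.map h).map g) *
            ((((Pm h)⁻¹ : GL (Fin n) P) : Matrix (Fin n) (Fin n) P).map g *
            ((((Pm g)⁻¹ : GL (Fin n) P) : Matrix (Fin n) (Fin n) P) * (Pm g : Matrix (Fin n) (Fin n) P)) *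
        (Pm h : Matrix (Fin n) (Fin n) P).map g) := by rw [e4, mul_one]
      _ = _ := by simp only [mul_assoc]
  have h5 := congrArg (· * (((Pm (g * h))⁻¹ : GL (Fin n) P) : Matrix (Fin n) (Fin n) P)) h4
  simp only [mul_assoc] at h5
  rwa [Units.mul_inv, mul_one, mul_one] at h5

include hP in
theorem isSemi_tw : K447.Descent.IsSemi (k := F) (K := P) (M := Matrix (Fin n) (Fin n) P) (tw Pm) where
  one m := by
    apply tw_injective Pm 1
    rw [← tw_comp hP, one_mul]
  mul g h m := tw_comp hP g h m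
  add g X Y := tw_add Pm g X Y
  smul g r X := tw_smul Pm g r X

/-- The algebra of fixed points of the twisted conjugation. -/
def fixedAlg (Pm : (P ≃ₐ[F] P) → GL (Fin n) P) : Subalgebra F (Matrix (Fin n) (Fin n) P) where
  carrier := {X | ∀ g, tw Pm g X = X}
  mul_mem' := fun {X Y} hX hY g => by rw [tw_mul, hX g, hY g]
  add_mem' := fun {X Y} hX hY g => by rw [tw_add, hX g, hY g]
  algebraMap_mem' := fun r g => by
    have : algebraMap F (Matrix (Fin n) (Fin n) P) r = (algebraMap F P r) • 1 := by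
      rw [Algebra.algebraMap_eq_smul_one, algebraMap_smul]
    rw [this, tw_smul, tw_one', AlgEquiv.commutes]

variable [FiniteDimensional F P] [IsGalois F P]

include hP in
theorem splits_fixedAlg : Nonempty (P ⊗[F] (fixedAlg Pm) ≃ₐ[P] Matrix (Fin n) (Fin n) P) := by
  refine ⟨?_⟩
  let f : P ⊗[F] (fixedAlg Pm) →ₐ[P] Matrix (Fin n) (Fin n) P :=
    AlgHom.liftEquiv F P (fixedAlg Pm) (Matrix (Fin n) (Fin n) P) (fixedAlg Pm).val
  have hb := K447.Descent.bijective_liftBaseChange (isSemi_tw hP) (fixedAlg Pm).val.toLinearMap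
    Subtype.val_injective (fun m => by
      constructor
      · rintro ⟨y, rfl⟩; exact y.2
      · intro h; exact ⟨⟨m, h⟩, rfl⟩)
  refine AlgEquiv.ofBijective f ?_
  convert hb using 1
  ext z
  induction z using TensorProduct.induction_on with
  | zero => simp
  | add x y hx hy => rw [map_add, map_add, Matrix.add_apply, Matrix.add_apply, hx, hy]
  | tmul a b => rw [LinearMap.liftBaseChange_tmul]; rfl

include hP in
/-- If every finite-dimensional central division algebra over `F` is trivial then the semilinear matrices are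
simultaneously semi-equivalent to scalars. -/
theorem exists_factor (hBr : ∀ (D : Type u) [DivisionRing D] [Algebra F D] [Algebra.IsCentral F D]
    [FiniteDimensional F D], Module.finrank F D = 1) :
    ∃ (Q : GL (Fin n) P) (l : (P ≃ₐ[F] P) → P), ∀ g,
      (Pm g : Matrix (Fin n) (Fin n) P) * (Q : Matrix (Fin n) (Fin n) P).map g =
        l g • (Q : Matrix (Fin n) (Fin n) P) := by
  obtain ⟨hcen, hsim, hfin⟩ := Groth.Agent.CurvesA.SepSplit.csa_of_splits F P (fixedAlg Pm) 
    ⟨n, NeZero.ne n, splits_fixedAlg hP⟩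
  obtain ⟨m, hm, ⟨e⟩⟩ := K440.Cyc1.splits_of_trivial F F (fixedAlg Pm) (fun D _ _ _ _ => hBr D)
  have : NeZero m := ⟨hm⟩
  let e0 : fixedAlg Pm ≃ₐ[F] Matrix (Fin m) (Fin m) F :=
    (Algebra.TensorProduct.lid F (fixedAlg Pm)).symm.trans (e.restrictScalars F)
  have hd1 : Module.finrank F (fixedAlg Pm) = n * n := by
    obtain ⟨e'⟩ := splits_fixedAlg hP
    have h1 := e'.toLinearEquiv.finrank_eq
    rw [Module.finrank_baseChange] at h1
    rw [h1]
    simp [Module.finrank_matrix]
  have hmn : m = n := by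
    have h1 := e0.toLinearEquiv.finrank_eq
    rw [hd1] at h1
    simp [Module.finrank_matrix] at h1
    exact (Nat.mul_self_inj.mp h1).symm
  subst hmn
  let f : Matrix (Fin m) (Fin m) F →ₐ[F] Matrix (Fin m) (Fin m) P := (fixedAlg Pm).val.comp e0.symm.toAlgHom
  let i : Matrix (Fin m) (Fin m) F →ₐ[F] Matrix (Fin m) (Fin m) P := (Algebra.ofId F P).mapMatrix
  obtain ⟨Q, hQ⟩ := exists_conj f i
  have key : ∀ g : P ≃ₐ[F] P, ∃ l : P, (Pm g : Matrix (Fin m) (Fin m) P) * (Q : Matrix (Fin m) (Fin m) P).map g =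
      l • (Q : Matrix (Fin m) (Fin m) P) := by
    intro g
    obtain ⟨l, hl⟩ := exists_scalar i (by simp [Module.finrank_matrix])
      (((Q⁻¹ : GL (Fin m) P) : Matrix (Fin m) (Fin m) P) * ((Pm g : Matrix (Fin m) (Fin m) P) *
        (Q : Matrix (Fin m) (Fin m) P).map g)) (by
      intro Y
      have h1 : tw Pm g (f Y) = f Y := (e0.symm Y).2 g
      have h2 : (Pm g : Matrix (Fin m) (Fin m) P) * (f Y).map g = f Y * (Pm g : Matrix (Fin m) (Fin m) P) := by
        conv_rhs => rw [← h1]
        rw [tw, mul_assoc, Units.inv_mul, mul_one]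
      have h3 : (i Y).map g = i Y := by
        ext a b
        exact g.commutes _
      have h4 : (Q : Matrix (Fin m) (Fin m) P).map g * i Y = (f Y).map g * (Q : Matrix (Fin m) (Fin m) P).map g := by
        rw [← map_mul', ← hQ, map_mul', h3]
      have h5 : ((Q⁻¹ : GL (Fin m) P) : Matrix (Fin m) (Fin m) P) * f Y =
          i Y * ((Q⁻¹ : GL (Fin m) P) : Matrix (Fin m) (Fin m) P) := by
        have h6 := congrArg (fun Z => ((Q⁻¹ : GL (Fin m) P) : Matrix (Fin m) (Fin m) P) * Z *
          ((Q⁻¹ : GL (Fin m) P) : Matrix (Fin m) (Fin m) P)) (hQ Y)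
        simp only [← mul_assoc] at h6
        rw [Units.inv_mul, one_mul, mul_assoc _ (Q : Matrix (Fin m) (Fin m) P), Units.mul_inv, mul_one] at h6
        exact h6.symm
      rw [mul_assoc, mul_assoc, h4, ← mul_assoc (Pm g : Matrix (Fin m) (Fin m) P), h2, ← mul_assoc, ← mul_assoc,
        h5, mul_assoc, mul_assoc])
    refine ⟨l, ?_⟩
    have h7 := congrArg (fun Z => (Q : Matrix (Fin m) (Fin m) P) * Z) hl
    simp only [← mul_assoc] at h7
    rw [Units.mul_inv, one_mul, Matrix.mul_smul, mul_one] at h7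
    exact h7
  choose l hl using key
  exact ⟨Q, l, hl⟩

include hP in
/-- The scalars of `exists_factor` trivialise the cocycle. -/
theorem exists_cochain (hBr : ∀ (D : Type u) [DivisionRing D] [Algebra F D] [Algebra.IsCentral F D]
    [FiniteDimensional F D], Module.finrank F D = 1) :
    ∃ l : (P ≃ₐ[F] P) → P, (∀ g, l g ≠ 0) ∧ ∀ g h, c g h * l (g * h) = g (l h) * l g := by
  obtain ⟨Q, l, hl⟩ := exists_factor hP hBr
  have hQ : ∀ x y : P, x • (Q : Matrix (Fin n) (Fin n) P) = y • (Q : Matrix (Fin n) (Fin n) P) → x = y := by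
    intro x y h
    have h1 := congrArg (fun Z => Z * ((Q⁻¹ : GL (Fin n) P) : Matrix (Fin n) (Fin n) P)) h
    simp only [Matrix.smul_mul, Units.mul_inv] at h1
    have h2 := congrFun (congrFun h1 0) 0
    simpa using h2
  refine ⟨l, fun g h0 => ?_, fun g h => hQ _ _ ?_⟩
  · have h1 := hl g
    rw [h0, zero_smul] at h1
    have h2 : (((Pm g)⁻¹ : GL (Fin n) P) : Matrix (Fin n) (Fin n) P) *
        ((Pm g : Matrix (Fin n) (Fin n) P) * (Q : Matrix (Fin n) (Fin n) P).map g *
        (((Q)⁻¹ : GL (Fin n) P) : Matrix (Fin n) (Fin n) P).map g) = 0 := by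
      rw [h1, zero_mul, mul_zero]
    rw [mul_assoc, ← map_mul', Units.mul_inv, map_one', mul_one, Units.inv_mul] at h2
    exact one_ne_zero h2
  · have e2 : (Q : Matrix (Fin n) (Fin n) P).map (g * h) = ((Q : Matrix (Fin n) (Fin n) P).map h).map g := by
      ext i j; rfl
    have e3 : ∀ (r : P) (X : Matrix (Fin n) (Fin n) P), (r • X).map g = g r • X.map g := by
      intro r X; ext i j; simp
    rw [mul_smul, ← hl, ← Matrix.smul_mul, ← hP, e2, mul_assoc, ← map_mul', hl h, e3, Matrix.mul_smul, hl g,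
      smul_smul]

end

/-- Over a field with trivial Brauer group every two-cocycle of the Galois group in the units is a coboundary. -/
theorem exists_coboundary [FiniteDimensional F P] [IsGalois F P]
    (hBr : ∀ (D : Type u) [DivisionRing D] [Algebra F D] [Algebra.IsCentral F D]
    [FiniteDimensional F D], Module.finrank F D = 1)
    (c : (P ≃ₐ[F] P) → (P ≃ₐ[F] P) → P) (hc0 : ∀ g h, c g h ≠ 0)
    (hc : ∀ g h k, g (c h k) * c g (h * k) = c (g * h) k * c g h) :
    ∃ l : (P ≃ₐ[F] P) → P, (∀ g, l g ≠ 0) ∧ ∀ g h, c g h * l (g * h) = g (l h) * l g := by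
  classical
  let n := Fintype.card (P ≃ₐ[F] P)
  have : NeZero n := ⟨Fintype.card_ne_zero⟩
  let e : (P ≃ₐ[F] P) ≃ Fin n := Fintype.equivFin _
  let B : (P ≃ₐ[F] P) → Matrix (Fin n) (Fin n) P := fun g =>
    Matrix.of fun i j => if e.symm i = g * e.symm j then c g (e.symm j) else 0
  have hB : ∀ g h, B g * (B h).map g = c g h • B (g * h) := by
    intro g h
    ext i j
    rw [Matrix.mul_apply, Matrix.smul_apply]
    simp only [B, Matrix.map_apply, Matrix.of_apply]
    rw [Finset.sum_eq_single (e (h * e.symm j))]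
    · simp only [Equiv.symm_apply_apply, if_true]
      rw [← mul_assoc]
      split_ifs with h1
      · rw [mul_comm, hc, smul_eq_mul, mul_comm]
      · rw [zero_mul, smul_zero]
    · intro k _ hk
      have : ¬ e.symm k = h * e.symm j := fun h2 => hk (by rw [← h2, Equiv.apply_symm_apply])
      rw [if_neg this, map_zero, mul_zero]
    · intro h3; exact absurd (Finset.mem_univ _) h3
  have h11 : ∀ k, c 1 k = c 1 1 := by
    intro k
    have h1 := hc 1 1 k
    rw [AlgEquiv.one_apply, one_mul, one_mul] at h1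
    exact mul_left_cancel₀ (hc0 1 k) h1
  have hB1 : B 1 = c 1 1 • 1 := by
    ext i j
    simp only [B, Matrix.of_apply, Matrix.smul_apply, one_mul, h11, Matrix.one_apply, smul_eq_mul, mul_ite, mul_one,
      mul_zero]
    simp only [EmbeddingLike.apply_eq_iff_eq]
  have hu : ∀ g, IsUnit (B g) := by
    intro g
    have h1 : B g * ((c g g⁻¹ * c 1 1)⁻¹ • (B g⁻¹).map g) = 1 := by
      rw [Matrix.mul_smul, hB, mul_inv_cancel, hB1, smul_smul, smul_smul, mul_assoc, inv_mul_cancel₀, one_smul]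
      exact mul_ne_zero (hc0 _ _) (hc0 _ _)
    exact IsUnit.of_mul_eq_one _ h1
  exact exists_cochain (Pm := fun g => (hu g).unit) (c := c) (fun g h => hB g h) hBr

end Tw

end K444.TwCoc
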