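import Groth.Agent.Brauer.K444.TwCoc
import Groth.Agent.GalCoh.K446.GLn
import Mathlib.FieldTheory.Fixed

/-!
# Descent of a splitting along a Galois extension
-/

set_option autoImplicit false
universe u v w
open scoped TensorProduct MatrixGroups

namespace K444.TwDesc

/-- Two-cocycles of a finite group acting faithfully on a field whose fixed field has trivial Brauer group. -/
theorem exists_coboundary {G : Type v} [Group G] [Finite G] {P : Type u} [Field P] [MulSemiringAction G P]
    [FaithfulSMul G P]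
    (hBr : ∀ (D : Type u) [DivisionRing D] [Algebra (FixedPoints.subfield G P) D]
      [Algebra.IsCentral (FixedPoints.subfield G P) D]
      [FiniteDimensional (FixedPoints.subfield G P) D], Module.finrank (FixedPoints.subfield G P) D = 1)
    (c : G → G → P) (hc0 : ∀ g h, c g h ≠ 0)
    (hc : ∀ g h k, g • (c h k) * c g (h * k) = c (g * h) k * c g h) :
    ∃ l : G → P, (∀ g, l g ≠ 0) ∧ ∀ g h, c g h * l (g * h) = g • (l h) * l g := by
  have : Fintype G := Fintype.ofFinite G
  let e := FixedPoints.toAlgAutMulEquiv G P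
  have he : ∀ (σ : P ≃ₐ[FixedPoints.subfield G P] P) (x : P), e.symm σ • x = σ x := by
    intro σ x
    obtain ⟨g, rfl⟩ := e.surjective σ
    rw [MulEquiv.symm_apply_apply]
    rfl
  obtain ⟨l, hl0, hl⟩ := TwCoc.exists_coboundary (F := FixedPoints.subfield G P) (P := P) hBr
    (fun σ τ => c (e.symm σ) (e.symm τ)) (fun _ _ => hc0 _ _) (fun σ τ ρ => by
      have := hc (e.symm σ) (e.symm τ) (e.symm ρ)
      rw [he] at this
      rw [map_mul, map_mul]
      exact this)
  refine ⟨fun g => l (e g), fun g => hl0 _, fun g h => ?_⟩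
  have := hl (e g) (e h)
  simp only [MulEquiv.symm_apply_apply] at this
  show c g h * l (e (g * h)) = _
  rw [map_mul, this]
  rfl

section

variable {E : Type*} [Field E] {M M' : Type u} [Field M] [Field M'] [Algebra E M] [Algebra E M'] [Algebra M M']
  [IsScalarTower E M M'] [FiniteDimensional M M'] [IsGalois M M']
  {D : Type*} [Ring D] [Algebra E D] {d : ℕ}

theorem exists_algHom (f : D →ₐ[E] Matrix (Fin d) (Fin d) M') (C : (M' ≃ₐ[M] M') → GL (Fin d) M')
    (hC1 : ∀ g x, (C g : Matrix (Fin d) (Fin d) M') * (f x).map g = f x * C g)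
    (c : (M' ≃ₐ[M] M') → (M' ≃ₐ[M] M') → M')
    (hC2 : ∀ g h, (C g : Matrix (Fin d) (Fin d) M') * (C h : Matrix (Fin d) (Fin d) M').map g =
      c g h • (C (g * h) : Matrix (Fin d) (Fin d) M'))
    (l : (M' ≃ₐ[M] M') → M') (hl0 : ∀ g, l g ≠ 0) (hl : ∀ g h, c g h * l (g * h) = g (l h) * l g) :
    Nonempty (D →ₐ[E] Matrix (Fin d) (Fin d) M) := by
  rcases Nat.eq_zero_or_pos d with rfl | hd
  · exact ⟨{ toFun := fun _ => 0, map_one' := Subsingleton.elim _ _, map_mul' := fun _ _ => Subsingleton.elim _ _,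
             map_zero' := Subsingleton.elim _ _, map_add' := fun _ _ => Subsingleton.elim _ _,
             commutes' := fun _ => Subsingleton.elim _ _ }⟩
  have : NeZero d := ⟨hd.ne'⟩
  have hc0 := TwCoc.c_ne_zero hC2
  -- inverse matrices
  have hinv : ∀ g h : M' ≃ₐ[M] M', (((C h)⁻¹ : GL (Fin d) M') : Matrix (Fin d) (Fin d) M').map g *
      (((C g)⁻¹ : GL (Fin d) M') : Matrix (Fin d) (Fin d) M') =
      (c g h)⁻¹ • (((C (g * h))⁻¹ : GL (Fin d) M') : Matrix (Fin d) (Fin d) M') := by
    intro g h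
    have h1 : ((((C h)⁻¹ : GL (Fin d) M') : Matrix (Fin d) (Fin d) M').map g *
      (((C g)⁻¹ : GL (Fin d) M') : Matrix (Fin d) (Fin d) M')) *
      ((C g : Matrix (Fin d) (Fin d) M') * (C h : Matrix (Fin d) (Fin d) M').map g) = 1 := by
      rw [mul_assoc, ← mul_assoc (((C g)⁻¹ : GL (Fin d) M') : Matrix (Fin d) (Fin d) M'), Units.inv_mul, one_mul,
        ← TwCoc.map_mul', Units.inv_mul, TwCoc.map_one']
    rw [hC2, Matrix.mul_smul] at h1
    have h2 := congrArg (fun Z => (c g h)⁻¹ • (Z * (((C (g * h))⁻¹ : GL (Fin d) M') : Matrix (Fin d) (Fin d) M'))) h1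
    simp only [Matrix.smul_mul, smul_smul] at h2
    rw [inv_mul_cancel₀ (hc0 g h), one_smul, mul_assoc, Units.mul_inv, mul_one, one_mul] at h2
    exact h2
  let a : (M' ≃ₐ[M] M') → Matrix (Fin d) (Fin d) M' := fun g =>
    l g • (((C g)⁻¹ : GL (Fin d) M') : Matrix (Fin d) (Fin d) M')
  have ha : ∀ g h, a (g * h) = (a h).map g * a g := by
    intro g h
    have e3 : ∀ (r : M') (X : Matrix (Fin d) (Fin d) M'), (r • X).map g = g r • X.map g := by
      intro r X; ext i j; simp
    simp only [a]
    rw [e3, Matrix.smul_mul, Matrix.mul_smul, hinv, smul_smul, smul_smul]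
    congr 1
    have := hl g h
    rw [← this]
    field_simp [hc0 g h]
  have ha1 : a 1 = 1 := by
    have h1 := hinv 1 1
    have h2 : (((C 1)⁻¹ : GL (Fin d) M') : Matrix (Fin d) (Fin d) M').map (1 : M' ≃ₐ[M] M') =
      (((C 1)⁻¹ : GL (Fin d) M') : Matrix (Fin d) (Fin d) M') := by ext i j; rfl
    rw [h2, mul_one] at h1
    have h3 := congrArg (fun Z => (C 1 : Matrix (Fin d) (Fin d) M') * Z) h1
    simp only [← mul_assoc, Matrix.mul_smul] at h3
    rw [Units.mul_inv, one_mul] at h3
    have h4 := hl 1 1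
    rw [mul_one, AlgEquiv.one_apply] at h4
    have h5 : c 1 1 = l 1 := mul_right_cancel₀ (hl0 1) h4
    simp only [a]
    rw [h3, h5, smul_smul, mul_inv_cancel₀ (hl0 1), one_smul]
  obtain ⟨q, hq⟩ := K446.GLn.exists_fixed_matrix a ha1 ha
  have hfix : ∀ (x : D) (g : M' ≃ₐ[M] M'), ((q : Matrix (Fin d) (Fin d) M') * f x *
      ((q⁻¹ : GL (Fin d) M') : Matrix (Fin d) (Fin d) M')).map g = (q : Matrix (Fin d) (Fin d) M') * f x *
      ((q⁻¹ : GL (Fin d) M') : Matrix (Fin d) (Fin d) M') := by
    intro x g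
    have h1 : (q : Matrix (Fin d) (Fin d) M').map g = (l g)⁻¹ • ((q : Matrix (Fin d) (Fin d) M') * C g) := by
      have h2 := hq g
      simp only [a] at h2
      have h3 := congrArg (fun Z => (l g)⁻¹ • (Z * (C g : Matrix (Fin d) (Fin d) M'))) h2
      simp only [Matrix.mul_smul, Matrix.smul_mul, mul_assoc] at h3
      rw [Units.inv_mul, mul_one, smul_smul, inv_mul_cancel₀ (hl0 g), one_smul] at h3
      exact h3
    have h4 : (q : Matrix (Fin d) (Fin d) M').map g *
        ((q⁻¹ : GL (Fin d) M') : Matrix (Fin d) (Fin d) M').map g = 1 := by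
      rw [← TwCoc.map_mul', Units.mul_inv, TwCoc.map_one']
    rw [TwCoc.map_mul', TwCoc.map_mul']
    have h5 : (q : Matrix (Fin d) (Fin d) M').map g * (f x).map g =
        (q : Matrix (Fin d) (Fin d) M') * f x * ((q⁻¹ : GL (Fin d) M') : Matrix (Fin d) (Fin d) M') *
          (q : Matrix (Fin d) (Fin d) M').map g := by
      rw [h1, Matrix.smul_mul, Matrix.mul_smul, mul_assoc _ (C g : Matrix (Fin d) (Fin d) M'), hC1]
      congr 1
      rw [← mul_assoc, ← mul_assoc, mul_assoc _ _ (q : Matrix (Fin d) (Fin d) M'), Units.inv_mul, mul_one]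
    rw [h5, mul_assoc, h4, mul_one]
  have hex : ∀ (x : D) (i j : Fin d), ∃ m : M, algebraMap M M' m = ((q : Matrix (Fin d) (Fin d) M') * f x *
      ((q⁻¹ : GL (Fin d) M') : Matrix (Fin d) (Fin d) M')) i j := by
    intro x i j
    exact (IsGalois.mem_range_algebraMap_iff_fixed _).mpr fun g => congrFun (congrFun (hfix x g) i) j
  let φ : D →ₐ[E] Matrix (Fin d) (Fin d) M' := 
    { toFun := fun x => (q : Matrix (Fin d) (Fin d) M') * f x * ((q⁻¹ : GL (Fin d) M') : Matrix (Fin d) (Fin d) M')
      map_one' := by rw [map_one, mul_one, Units.mul_inv]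
      map_mul' := fun x y => by
        rw [map_mul]
        simp only [mul_assoc]
        rw [← mul_assoc (((q⁻¹ : GL (Fin d) M') : Matrix (Fin d) (Fin d) M')) (q : Matrix (Fin d) (Fin d) M'),
          Units.inv_mul, one_mul]
      map_zero' := by rw [map_zero, mul_zero, zero_mul]
      map_add' := fun x y => by rw [map_add, mul_add, add_mul]
      commutes' := fun r => by
        rw [AlgHom.commutes, ← Algebra.commutes, mul_assoc, Units.mul_inv, mul_one] }
  choose m hm using hex
  let ι : Matrix (Fin d) (Fin d) M →ₐ[E] Matrix (Fin d) (Fin d) M' := (IsScalarTower.toAlgHom E M M').mapMatrix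
  have hinj : Function.Injective ι := by
    intro X Y h
    ext i j
    exact (algebraMap M M').injective (congrFun (congrFun h i) j)
  have hι : ∀ x, ι (Matrix.of (m x)) = φ x := by
    intro x
    ext i j
    exact hm x i j
  exact ⟨{ toFun := fun x => Matrix.of (m x)
           map_one' := hinj (by rw [hι, map_one, map_one])
           map_mul' := fun x y => hinj (by rw [hι, map_mul, map_mul, hι, hι])
           map_zero' := hinj (by rw [hι, map_zero, map_zero])
           map_add' := fun x y => hinj (by rw [hι, map_add, map_add, hι, hι])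
           commutes' := fun r => hinj (by rw [hι, AlgHom.commutes, AlgHom.commutes]) }⟩

end

end K444.TwDesc
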